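import Mathlib
import Cfsg.Agent.Lib.Ofs.TL1
import Cfsg.Agent.Lib.Ofs.TL2
import Cfsg.Agent.Lib.D4S.UA

/-!
# Essential subgroups over the Sylow 2-subgroups of `G₂(q)` and `³D₄(q)`: interfaces (helper78)
-/

set_option autoImplicit false
set_option linter.unusedSectionVars false
set_option linter.unusedSimpArgs false
set_option linter.unnecessarySeqFocus false

namespace H78.Sy

open H89.D4S H89.D4S.U12 H78.Ofs Subgroup
open scoped commutatorElement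

section Gen

variable {W : Type*} [Group W] [Finite W] {M X A B C : Subgroup W} {𝒜 : Set (W → W)}

/-- The stabiliser of the set of elements of order dividing four. -/
def G4 (X : Subgroup W) : Subgroup W where
  carrier := {x | x ∈ X ∧ ∀ y ∈ X, (x * y) ^ 4 = 1 ↔ y ^ 4 = 1}
  mul_mem' := fun {a b} ha hb => ⟨mul_mem ha.1 hb.1, fun y hy => by
    rw [mul_assoc, ha.2 _ (mul_mem hb.1 hy), hb.2 y hy]⟩
  one_mem' := ⟨one_mem X, fun y _ => by rw [one_mul]⟩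
  inv_mem' := fun {a} ha => ⟨inv_mem ha.1, fun y hy => by
    rw [← ha.2 _ (mul_mem (inv_mem ha.1) hy), mul_inv_cancel_left]⟩

theorem mem_G4 {x : W} : x ∈ G4 X ↔ x ∈ X ∧ ∀ y ∈ X, (x * y) ^ 4 = 1 ↔ y ^ 4 = 1 := Iff.rfl

theorem au_pow4 {f : W → W} (a : Au X f) {x : W} (hx : x ∈ X) : f x ^ 4 = 1 ↔ x ^ 4 = 1 := by
  have e : ∀ y : W, y ^ 4 = y * y * (y * y) := fun y => by rw [← sq, ← sq, ← pow_mul]
  have h2 := mul_mem hx hx
  rw [e, ← a.mul _ hx _ hx, ← a.mul _ h2 _ h2, ← e]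
  exact ⟨a.inj _ (pow_mem hx 4), fun h => h ▸ a.one⟩

theorem iv_G4 (h : Gd M X 𝒜) : Iv 𝒜 X (G4 X) := ⟨fun _ hx => hx.1, fun f hf x hx => by
  have a := h.au f hf
  refine ⟨a.mem x hx.1, fun y hy => ?_⟩
  obtain ⟨y, hy', rfl⟩ := a.surj hy
  rw [← a.mul _ hx.1 _ hy', au_pow4 a (mul_mem hx.1 hy'), au_pow4 a hy', hx.2 y hy']⟩

theorem iv_surj (h : Gd M X 𝒜) (b : Iv 𝒜 X B) {f : W → W} (hf : f ∈ 𝒜) {y : W} (hy : y ∈ B) :
    ∃ x ∈ B, f x = y :=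
  (⟨b.2 f hf, fun x hx y hy => (h.au f hf).mul x (b.1 hx) y (b.1 hy),
    fun x hx => (h.au f hf).inj x (b.1 hx)⟩ : Au B f).surj hy

theorem iv_rc (h : Gd M X 𝒜) (a : Iv 𝒜 X A) (b : Iv 𝒜 X B) (hC : C ≤ X)
    (h1 : ∀ x ∈ C, ∀ y ∈ B, ⁅x, y⁆ ∈ A) (h2 : ∀ x ∈ X, (∀ y ∈ B, ⁅x, y⁆ ∈ A) → x ∈ C) : Iv 𝒜 X C :=
  ⟨hC, fun f hf x hx => h2 _ ((h.au f hf).mem x (hC hx)) fun y hy => by
    obtain ⟨y, hy', rfl⟩ := iv_surj h b hf hy
    rw [← (h.au f hf).comm (hC hx) (b.1 hy')]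
    exact a.2 f hf _ (h1 x hx y hy')⟩

theorem iv_Wz' (h : Gd M X 𝒜) (b : Iv 𝒜 X B) : Iv 𝒜 X (Wz B) :=
  ⟨fun _ hx => b.1 hx.1, fun f hf x hx => by
    have a := h.au f hf
    have hX := b.1 hx.1
    refine ⟨b.2 f hf x hx.1, by rw [← a.mul _ hX _ hX, hx.2.1, a.one], fun y hy => ?_⟩
    obtain ⟨y, hy', rfl⟩ := iv_surj h b hf hy
    rw [← a.mul _ hX _ (b.1 hy'), ← a.mul _ (b.1 hy') _ hX, hx.2.2 y hy']⟩

theorem iv_closure (h : Gd M X 𝒜) {s : Set W} (h1 : ∀ x ∈ s, x ∈ X) (h2 : ∀ f ∈ 𝒜, ∀ x ∈ s, f x ∈ s) :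
    Iv 𝒜 X (closure s) :=
  ⟨(closure_le _).2 h1, fun f hf _ hx => (((closure_le ((h.au f hf).pre (closure s))).2
    fun y hy => ⟨h1 y hy, subset_closure (h2 f hf y hy)⟩) hx).2⟩

/-- The bound on commutator spaces for an elementary abelian `N_S(X)/X`. -/
def F2 (X : Subgroup W) : Prop :=
  Ph X ≤ Wz X → (∀ t ∈ normalizer (X : Set W), t * t ∈ X ∧ ∀ a ∈ Wz X, t * a = a * t) →
    ∀ t ∈ normalizer (X : Set W), t ∉ X → ∀ C : Subgroup W, Wz X ≤ C → (∀ x ∈ X, ⁅t, x⁆ ∈ C) →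
      X.relIndex (normalizer (X : Set W)) * Nat.card (Wz X) ≤ Nat.card C

end Gen

variable {F E : Type*} [Field F] [Field E] [Cub F E] [CharP F 2] [CharP E 2]

variable (E) in
/-- The case `G₂(q)`, `q ≥ 4`. -/
def CG : Prop := Function.Surjective (ι : F → E) ∧ 4 ≤ Nat.card F

variable (E) in
/-- The case `³D₄(q)`. -/
def CD : Prop := Nat.card E = Nat.card F ^ 3

variable (E) in
/-- `O₂` of the short root parabolic. -/
def R5 : Subgroup (U12 E) where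
  carrier := {u | u.p5 = 0}
  mul_mem' ha hb := by simp_all
  one_mem' := rfl
  inv_mem' ha := ha

/-- The conjugates of `X₀ B`. -/
def Yv (c : F) : Subgroup (U12 E) where
  carrier := {u | u.p5 = 0 ∧ u.p4 = ι c * u.p0}
  mul_mem' ha hb := by simp_all [mul_add]
  one_mem' := by simp
  inv_mem' ha := by simp_all

/-- The centraliser in `R5` of `x₂(F z)`. -/
def R0 (z : E) : Subgroup (U12 E) where
  carrier := {u | u.p5 = 0 ∧ T (z * u.p0) = 0 ∧ T (z * u.p4) = 0}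
  mul_mem' ha hb := by simp_all [mul_add]
  one_mem' := by simp
  inv_mem' ha := by simp_all

@[simp] theorem mem_R5 {u : U12 E} : u ∈ R5 E ↔ u.p5 = 0 := Iff.rfl
@[simp] theorem mem_Yv {c : F} {u : U12 E} : u ∈ Yv c ↔ u.p5 = 0 ∧ u.p4 = ι c * u.p0 := Iff.rfl
@[simp] theorem mem_R0 {z : E} {u : U12 E} :
    u ∈ R0 z ↔ u.p5 = 0 ∧ T (z * u.p0) = 0 ∧ T (z * u.p4) = 0 := Iff.rfl
@[simp] theorem mem_N1 {u : U12 E} : u ∈ UA.N1 E ↔ u.p0 = 0 ∧ u.p5 = 0 := Iff.rfl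

theorem comm_c (x g : U12 E) : g * x * g⁻¹ = ⁅g, x⁆ * x := by rw [commutatorElement_def]; group

theorem normal_of {A : Subgroup (U12 E)} (h : ∀ x ∈ A, ∀ g, ⁅x, g⁆ ∈ A) : A.Normal := ⟨fun x hx g => by
  rw [comm_c, ← commutatorElement_inv]
  exact mul_mem (inv_mem (h x hx g)) hx⟩

instance normal_Q : (Q E).Normal := normal_of fun _ _ _ => (UA.c1 ..).1
instance normal_R5 : (R5 E).Normal := normal_of fun _ _ _ => (UA.c1 ..).2.1
instance normal_N1 : (UA.N1 E).Normal := normal_of fun _ _ _ => ⟨(UA.c1 ..).1, (UA.c1 ..).2.1⟩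
instance normal_E2 : (E2 E).Normal := normal_of fun _ h g =>
  let ⟨a, b, c, _⟩ := UA.c2 h.1 h.2.1 g; ⟨a, b, c⟩
instance normal_EA : (EA E).Normal := normal_of fun _ h g =>
  let ⟨a, b, c, d, _⟩ := UA.c3 h.1 h.2.1 h.2.2.1 g; ⟨a, b, c, d⟩
instance normal_Z : (Z E).Normal := normal_of fun _ h g => by
  rw [UA.c4 ⟨h.1, h.2.1, h.2.2.1, h.2.2.2.1⟩]; exact mem_Z'.2 ⟨_, rfl⟩

theorem au_na : Au (Q E) na :=
  ⟨fun _ _ => rfl, fun _ hx _ hy => na_mul hx hy, fun x hx e => by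
    rw [← na_na hx, e]; ext <;> simp [na]⟩

theorem au_nb : Au (R5 E) nb :=
  ⟨fun _ _ => rfl, fun _ hx _ hy => nb_mul hx hy, fun x hx e => by
    rw [← nb_nb hx, e]; ext <;> simp [nb]⟩

/-- Commutators in `Q`. -/
theorem cQ {x y : U12 E} (hx : x.p0 = 0) (hy : y.p0 = 0) : ⁅x, y⁆ = g3 (Bf x y) := by
  rw [commutatorElement_def, comm_Q hx hy, ← g3_comm]; group

/-- Commutators in `R5`. -/
theorem cR {x y : U12 E} (hx : x.p5 = 0) (hy : y.p5 = 0) : ⁅x, y⁆.p0 = 0 ∧ ⁅x, y⁆.p5 = 0 ∧ ⁅x, y⁆.p4 = 0 ∧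
    ⁅x, y⁆.p2 = cr x.p0 y.p4 + cr x.p4 y.p0 ∧
    ⁅x, y⁆.p1 = T (x.p0 * y.p2) + T (y.p0 * x.p2) + T (sh x.p0 * y.p4) + T (sh y.p0 * x.p4) ∧
    ⁅x, y⁆.p3 = T (x.p4 * y.p2) + T (y.p4 * x.p2) + T (x.p0 * sh y.p4) + T (y.p0 * sh x.p4) +
      T (cr x.p0 y.p4 * x.p4) + T (cr y.p0 x.p4 * y.p4) := by
  rw [commutatorElement_def]
  refine ⟨?_, ι_inj (J := E) ?_, ?_, ?_, ι_inj (J := E) ?_, ι_inj (J := E) ?_⟩ <;> u12s <;>
    (try simp only [hx, hy]) <;> cub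

/-- Commutators of `B` with `R5`. -/
theorem cB {b x : U12 E} (hb : b ∈ E2 E) (hx : x.p5 = 0) :
    ⁅b, x⁆ = g1 (T (x.p0 * b.p2)) * g3 (T (x.p4 * b.p2)) := by
  obtain ⟨h0, h5, h4⟩ := hb
  rw [commutatorElement_def, mul_inv_eq_iff_eq_mul, mul_inv_eq_iff_eq_mul]
  u12w [h0, h5, h4, hx]

/-- Conjugation by `x₅`. -/
theorem cj5 (c : F) {x : U12 E} (hx : x.p5 = 0) : (g5 c * x * (g5 c)⁻¹).p0 = x.p0 ∧
    (g5 c * x * (g5 c)⁻¹).p5 = 0 ∧ (g5 c * x * (g5 c)⁻¹).p4 = x.p4 + ι c * x.p0 := by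
  refine ⟨?_, ι_inj (J := E) ?_, ?_⟩ <;> u12s <;> (try simp only [hx]) <;> cub

/-- Squares. -/
theorem sq4 (x : U12 E) : (x * x).p0 = 0 ∧ (x * x).p5 = 0 ∧ (x * x).p4 = ι x.p5 * x.p0 ∧
    (x * x).p2 = cr x.p0 x.p4 + ι x.p5 * sh x.p0 := by
  refine ⟨?_, ι_inj (J := E) ?_, ?_, ?_⟩ <;> u12s <;> cub

theorem inv_or {x : U12 E} (h : x * x = 1) : x.p0 = 0 ∨ x.p5 = 0 := by
  have := (sq4 x).2.2.1
  rw [h] at this
  rcases mul_eq_zero.1 this.symm with e | e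
  · exact .inr (ι_eq_zero.1 e)
  · exact .inl e

theorem inv_R5 {x : U12 E} (h : x * x = 1) (h5 : x.p5 = 0) : cr x.p0 x.p4 = 0 ∧
    T (x.p0 * x.p2) = T (sh x.p0 * x.p4) ∧ T (x.p4 * x.p2) = T (x.p0 * sh x.p4) := by
  have e2 := congrArg U12.p2 h
  have e1 := congrArg U12.p1 h
  have e3 := congrArg U12.p3 h
  simp [h5, CharTwo.add_self_eq_zero] at e1 e2 e3
  exact ⟨e2, CharTwo.add_eq_zero.1 e1, by rw [mul_comm]; exact (CharTwo.add_eq_zero.1 e3).symm⟩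

theorem sq_B {x : U12 E} (h : x ∈ E2 E) : x * x = 1 := by
  obtain ⟨h0, h5, h4⟩ := h
  u12w [h0, h5, h4]

theorem pow4 (x : U12 E) : x * x * (x * x) = g3 (x.p5 ^ 2 * N x.p0) := by u12

theorem pow4_iff {x : U12 E} [Finite F] [Finite E] : x ^ 4 = 1 ↔ x.p0 = 0 ∨ x.p5 = 0 := by
  rw [show x ^ 4 = x * x * (x * x) by rw [← sq, ← sq, ← pow_mul], pow4]
  refine ⟨fun e => ?_, fun e => by rcases e with e | e <;> simp [e] <;> rfl⟩
  rcases mul_eq_zero.1 (show x.p5 ^ 2 * N x.p0 = 0 from congrArg U12.p3 e) with e | e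
  · exact .inr (pow_eq_zero_iff two_ne_zero |>.1 e)
  · exact .inl (N_eq_zero.1 e)

theorem cr_cr (a b z : E) : cr (cr a b) z = ι (T (a * z)) * b + ι (T (b * z)) * a := by cub

theorem CG.cr (h : CG E) (x y : E) : cr x y = 0 := by
  obtain ⟨a, rfl⟩ := h.1 x
  obtain ⟨b, rfl⟩ := h.1 y
  simp [H89.D4S.cr, CharTwo.add_self_eq_zero]

theorem CG.card (h : CG E) : Nat.card E = Nat.card F :=
  (Nat.card_eq_of_bijective _ ⟨ι_inj, h.1⟩).symm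

variable [Finite F] [Finite E]

theorem card_le {α : Type*} [Finite α] (A : Subgroup (U12 E)) (f : U12 E → α)
    (h : ∀ x ∈ A, ∀ y ∈ A, f x = f y → x = y) : Nat.card A ≤ Nat.card α :=
  Nat.card_le_card_of_injective (fun x : A => f x) fun x y e => Subtype.ext (h x x.2 y y.2 e)

theorem le_card {α : Type*} (A : Subgroup (U12 E)) (g : α → U12 E) (hg : ∀ v, g v ∈ A)
    (h : Function.Injective g) : Nat.card α ≤ Nat.card A :=
  Nat.card_le_card_of_injective (fun v => (⟨g v, hg v⟩ : A)) fun _ _ e => h (congrArg Subtype.val e)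

theorem card_Z : Nat.card (Z E) = Nat.card F := le_antisymm
  (card_le _ (fun x => x.p3) fun x hx y hy e => by
    rw [mem_Z] at hx hy; ext <;> simp_all)
  (le_card _ g3 (fun _ => mem_Z'.2 ⟨_, rfl⟩) fun _ _ e => congrArg U12.p3 e)

theorem card_EA : Nat.card (EA E) = Nat.card F ^ 2 := by
  rw [sq, ← Nat.card_prod]
  exact le_antisymm (card_le _ (fun x => (x.p1, x.p3)) fun x hx y hy e => by
      rw [mem_EA] at hx hy; ext <;> simp_all)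
    (le_card _ (fun v : F × F => ⟨0, 0, 0, 0, v.1, v.2⟩) (fun _ => ⟨rfl, rfl, rfl, rfl⟩) fun _ _ e => by
      ext <;> simp_all)

theorem card_E2 : Nat.card (E2 E) = Nat.card E * Nat.card F ^ 2 := by
  rw [sq, ← Nat.card_prod, ← Nat.card_prod]
  exact le_antisymm (card_le _ (fun x => (x.p2, x.p1, x.p3)) fun x hx y hy e => by
      rw [mem_E2] at hx hy; ext <;> simp_all)
    (le_card _ (fun v : E × F × F => ⟨0, 0, 0, v.1, v.2.1, v.2.2⟩) (fun _ => ⟨rfl, rfl, rfl⟩) fun _ _ e => by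
      ext <;> simp_all)

theorem card_N1 : Nat.card (UA.N1 E) = Nat.card E ^ 2 * Nat.card F ^ 2 := by
  rw [sq, sq, ← Nat.card_prod, ← Nat.card_prod, ← Nat.card_prod]
  exact le_antisymm (card_le _ (fun x => ((x.p4, x.p2), x.p1, x.p3)) fun x hx y hy e => by
      rw [mem_N1] at hx hy; ext <;> simp_all)
    (le_card _ (fun v : (E × E) × F × F => ⟨0, 0, v.1.1, v.1.2, v.2.1, v.2.2⟩) (fun _ => ⟨rfl, rfl⟩)
      fun _ _ e => by ext <;> simp_all)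

theorem card_Q : Nat.card (Q E) = Nat.card E ^ 2 * Nat.card F ^ 3 := by
  rw [sq, pow_succ, sq, ← Nat.card_prod, ← Nat.card_prod, ← Nat.card_prod, ← Nat.card_prod]
  exact le_antisymm (card_le _ (fun x => ((x.p4, x.p2), (x.p1, x.p3), x.p5)) fun x hx y hy e => by
      rw [mem_Q] at hx hy; ext <;> simp_all)
    (le_card _ (fun v : (E × E) × (F × F) × F => ⟨0, v.2.2, v.1.1, v.1.2, v.2.1.1, v.2.1.2⟩) (fun _ => rfl)
      fun _ _ e => by ext <;> simp_all)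

theorem card_R5 : Nat.card (R5 E) = Nat.card E ^ 3 * Nat.card F ^ 2 := by
  rw [pow_succ, sq, sq, ← Nat.card_prod, ← Nat.card_prod, ← Nat.card_prod, ← Nat.card_prod]
  exact le_antisymm (card_le _ (fun x => (((x.p0, x.p4), x.p2), x.p1, x.p3)) fun x hx y hy e => by
      rw [mem_R5] at hx hy; ext <;> simp_all)
    (le_card _ (fun v : ((E × E) × E) × F × F => ⟨v.1.1.1, 0, v.1.1.2, v.1.2, v.2.1, v.2.2⟩) (fun _ => rfl)
      fun _ _ e => by ext <;> simp_all)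

theorem auto_lemmas_sydefs : True := by
  have := @CG.eq_1.{0, 0}
  have := @CD.eq_1.{0, 0}
  have := @R5.eq_1.{0, 0}
  have := @Yv.eq_1.{0, 0}
  have := @R0.eq_1.{0, 0}
  have := @F2.eq_1.{0}
  have := @G4.eq_1.{0}
  trivial

end H78.Sy
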