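import Mathlib
import Cfsg.Agent.Lib.Sy.Defs

/-!
# Subgroups outside `Q` and `R`, first part (SY6E MA)
-/

set_option autoImplicit false
set_option linter.unusedSectionVars false
set_option linter.unusedSimpArgs false
set_option linter.unnecessarySeqFocus false

namespace H78.Sy

open H89.D4S H89.D4S.U12 H78.Ofs Subgroup
open scoped commutatorElement

variable {F E : Type*} [Field F] [Field E] [Cub F E] [CharP F 2] [CharP E 2] [Finite F] [Finite E]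
  {X : Subgroup (U12 E)}

theorem exists_mix (h0 : ¬ X ≤ Q E) (h5 : ¬ X ≤ R5 E) : ∃ e ∈ X, e.p0 ≠ 0 ∧ e.p5 ≠ 0 := by
  obtain ⟨a, ha, a0⟩ := SetLike.not_le_iff_exists.1 h0
  obtain ⟨b, hb, b5⟩ := SetLike.not_le_iff_exists.1 h5
  by_cases a5 : a.p5 = 0
  · by_cases b0 : b.p0 = 0
    · exact ⟨a * b, mul_mem ha hb, by rwa [mul_p0, b0, add_zero], by rwa [mul_p5, a5, zero_add]⟩
    · exact ⟨b, hb, b0, b5⟩
  · exact ⟨a, ha, a0, a5⟩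

theorem ma_g3 (c : F) : (g3 c : U12 E) ∈ Z E := mem_Z'.2 ⟨c, rfl⟩

theorem ma_AB : EA E ≤ E2 E := fun _ h => ⟨h.1, h.2.1, h.2.2.1⟩

theorem ma_A {b : U12 E} (hb : b ∈ E2 E) (x : U12 E) : ⁅b, x⁆ ∈ EA E :=
  let ⟨a, b, c, d, _⟩ := UA.c3 hb.1 hb.2.1 hb.2.2 x; ⟨a, b, c, d⟩

theorem ma_ZW (h : Gc ⊤ X) : Z E ≤ Wz X := fun z hz => by
  obtain ⟨c, rfl⟩ := mem_Z'.1 hz
  exact ⟨h.cent trivial fun x _ => g3_comm c x, sq_B ⟨rfl, rfl, rfl⟩, fun y _ => g3_comm c y⟩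

theorem ma_p4 {x e : U12 E} (e0 : e.p0 ≠ 0) (e5 : e.p5 ≠ 0) (hx : x.p0 = 0 ∨ x.p5 = 0)
    (h : ⁅x, e⁆.p4 = 0) : x.p0 = 0 ∧ x.p5 = 0 := by
  rw [(UA.c1 x e).2.2] at h
  rcases hx with a | a
  · rw [a, mul_zero, zero_add] at h
    exact ⟨a, ι_eq_zero.1 ((mul_eq_zero.1 h).resolve_right e0)⟩
  · rw [a, map_zero, zero_mul, add_zero] at h
    exact ⟨(mul_eq_zero.1 h).resolve_left (mt ι_eq_zero.1 e5), a⟩

theorem ma_WB {e : U12 E} (he : e ∈ X) (e0 : e.p0 ≠ 0) (e5 : e.p5 ≠ 0) : Wz X ≤ E2 E := fun w hw => by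
  have c := hw.2.2 e he
  have c' : ⁅w, e⁆ = 1 := commutatorElement_eq_one_iff_mul_comm.2 c
  obtain ⟨w0, w5⟩ := ma_p4 e0 e5 (inv_or hw.2.1) (by rw [c']; rfl)
  have a2 := (UA.c2 w0 w5 e).2.2.2
  rw [c'] at a2
  obtain ⟨k, hk⟩ := cr_eq_zero e0 a2.symm
  have a1 := (UA.cj w0 e).2.2.2.2
  rw [← c, mul_inv_cancel_right, w5, zero_mul, add_zero, add_assoc, left_eq_add, CharTwo.add_eq_zero, hk,
    show sh e.p0 * (ι k * e.p0) = ι (k * N e.p0) by rw [map_mul, ← mul_sh]; ring, T_ι] at a1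
  have a3 := congrArg U12.p3 ((sq_Q w0).symm.trans hw.2.1)
  have a4 : k * (k * N e.p0) = 0 := by
    rw [← a1, ← T_ι_mul, ← mul_assoc, ← hk]
    simpa [g3, w5] using a3
  have : k = 0 := by simpa [N_eq_zero, e0] using a4
  exact ⟨w0, w5, by rw [hk, this, map_zero, zero_mul]⟩

theorem mix_B (h : Gc ⊤ X) {e : U12 E} (he : e ∈ X) (e0 : e.p0 ≠ 0) (e5 : e.p5 ≠ 0) :
    E2 E ≤ X ∧ EA E ≤ Ph X := by
  have zw := ma_ZW h
  have wb := ma_WB he e0 e5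
  have ax : EA E ≤ X := fun t ht => h.chain1 trivial h.iv_Wz
    (fun x _ => mem_sup_left (zw (UA.c4 ht x ▸ ma_g3 _))) fun x hx => by
      rw [UA.c4 ht, (wb hx).2.1, mul_zero]; exact one_mem _
  have zp : Z E ≤ Ph X := fun z hz => by
    obtain ⟨c, rfl⟩ := mem_Z'.1 hz
    have m : (g1 (c / e.p5) : U12 E) ∈ EA E := ⟨rfl, rfl, rfl, rfl⟩
    have := comm_mem_Ph (ax m) he
    rwa [UA.c4 m, show (g1 (c / e.p5) : U12 E).p1 * e.p5 = c from div_mul_cancel₀ c e5] at this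
  have bq : Bz X ≤ Q E := Bz_le_of fun x _ x2 hx => (ma_p4 e0 e5 (inv_or x2) (wb (hx e he)).2.2).1
  have ab : EA E ≤ Bz X := fun a ha => mem_Bz (ax ha) (sq_B (ma_AB ha)) fun y _ =>
    zw (UA.c4 ha y ▸ ma_g3 _)
  have bx : E2 E ≤ X := fun t ht => h.chain1 trivial h.iv_Bz
    (fun x _ => mem_sup_left (ab (ma_A ht x))) fun x hx => zp (cQ ht.1 (bq hx) ▸ ma_g3 _)
  refine ⟨bx, fun a ha => ?_⟩
  obtain ⟨u, hu⟩ := exists_T e0 a.p1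
  have m : (g2 u : U12 E) ∈ E2 E := ⟨rfl, rfl, rfl⟩
  obtain ⟨k0, k5, k4, k2, k1⟩ := UA.c3 m.1 m.2.1 m.2.2 e
  have kp := comm_mem_Ph (bx m) he
  have k1' : ⁅(g2 u : U12 E), e⁆.p1 = a.p1 := k1.trans hu
  generalize ⁅(g2 u : U12 E), e⁆ = k at k0 k5 k4 k2 k1' kp
  obtain ⟨a0, a5, a4, a2⟩ := ha
  refine (mul_mem_cancel_left kp).1 (zp ?_)
  rw [mem_Z]
  simp [k0, k5, k4, k2, k1', a0, a5, a4, a2, CharTwo.add_self_eq_zero]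

theorem mix_M (h : Gc ⊤ X) {e : U12 E} (he : e ∈ X) (e0 : e.p0 ≠ 0) (e5 : e.p5 ≠ 0) :
    ∃ M, Iv {f | Au X f} X M ∧ E2 E ≤ M ∧ M ≤ Q E := by
  have bx := (mix_B h he e0 e5).1
  have bm : E2 E ≤ G4 X := fun b hb => ⟨bx hb, fun y _ => by
    rw [pow4_iff, pow4_iff, mul_p0, mul_p5, hb.1, hb.2.1, zero_add, zero_add]⟩
  by_cases hq : G4 X ≤ Q E
  · exact ⟨_, iv_G4 h, bm, hq⟩
  have hr : G4 X ≤ R5 E := by
    by_contra hr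
    obtain ⟨m, hm, m0, m5⟩ := exists_mix hq hr
    have := (hm.2 1 (one_mem _)).2 (one_pow 4)
    rw [mul_one, pow4_iff] at this
    exact this.elim m0 m5
  have aw : EA E ≤ Wz (G4 X) := fun a ha => ⟨bm (ma_AB ha), sq_B (ma_AB ha), fun y hy =>
    commutatorElement_eq_one_iff_mul_comm.1 (by rw [UA.c4 ha, show y.p5 = 0 from hr hy, mul_zero]; rfl)⟩
  have wb : Wz (G4 X) ≤ E2 E := fun w hw => mem_E2_of_comm (hw.2.2 _ (bm ⟨rfl, rfl, rfl⟩))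
    fun a => hw.2.2 _ (bm ⟨rfl, rfl, rfl⟩)
  refine ⟨closure {x | x ∈ X ∧ x ^ 4 = 1 ∧ ∀ y ∈ X, ⁅x, y⁆ ∈ Wz (G4 X)},
    iv_closure h (fun x hx => hx.1) fun f hf x hx => ⟨hf.mem x hx.1, (au_pow4 hf hx.1).2 hx.2.1,
      fun y hy => ?_⟩, fun b hb => subset_closure ⟨bx hb, pow4_iff.2 (.inl hb.1), fun y _ => aw (ma_A hb y)⟩,
    (closure_le _).2 fun x hx => (ma_p4 e0 e5 (pow4_iff.1 hx.2.1) (wb (hx.2.2 e he)).2.2).1⟩
  obtain ⟨y, hy', rfl⟩ := Au.surj hf hy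
  rw [← Au.comm hf hx.1 hy']
  exact (iv_Wz' h (iv_G4 h)).2 f hf _ (hx.2.2 y hy')

end H78.Sy
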