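import Mathlib
import Cfsg.Agent.Lib.Sy.MA

/-!
# Subgroups outside `Q` and `R`, second part (SY6E MB)
-/

set_option autoImplicit false
set_option linter.unusedSectionVars false
set_option linter.unusedSimpArgs false
set_option linter.unnecessarySeqFocus false

namespace H78.Sy

open H89.D4S H89.D4S.U12 H78.Ofs Subgroup
open scoped commutatorElement

variable {F E : Type*} [Field F] [Field E] [Cub F E] [CharP F 2] [CharP E 2] [Finite F] [Finite E]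
  {X : Subgroup (U12 E)}

/-- the elements that are central modulo `EA` -/
def MB_C (X : Subgroup (U12 E)) : Subgroup (U12 E) where
  carrier := {x | x ∈ X ∧ ∀ y ∈ X, ⁅x, y⁆ ∈ EA E}
  mul_mem' := fun {a b} ha hb => ⟨mul_mem ha.1 hb.1, fun y hy => by
    rw [show ⁅a * b, y⁆ = a * ⁅b, y⁆ * a⁻¹ * ⁅a, y⁆ by simp only [commutatorElement_def]; group]
    exact mul_mem (normal_EA.conj_mem _ (hb.2 y hy) a) (ha.2 y hy)⟩
  one_mem' := ⟨one_mem X, fun y _ => by simp⟩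
  inv_mem' := fun {a} ha => ⟨inv_mem ha.1, fun y hy => by
    rw [show ⁅a⁻¹, y⁆ = a⁻¹ * ⁅a, y⁆⁻¹ * a⁻¹⁻¹ by simp only [commutatorElement_def]; group]
    exact normal_EA.conj_mem _ (inv_mem (ha.2 y hy)) a⁻¹⟩

theorem MB_flip {A : Subgroup (U12 E)} {a b : U12 E} (h : ⁅a, b⁆ ∈ A) : ⁅b, a⁆ ∈ A := by
  rw [← commutatorElement_inv]; exact inv_mem h

theorem MB_EA {w : U12 E} (h : ∀ y ∈ UA.N1 E, w * y = y * w) : w ∈ EA E := by
  obtain ⟨h0, h5, h4⟩ := mem_E2_of_comm (h (g1 1) ⟨rfl, rfl⟩) fun a => h (g2 a) ⟨rfl, rfl⟩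
  exact ⟨h0, h5, h4, nd _ fun a => by
    simpa [Bf, g4] using UA.bf0 h0 (v := g4 a) rfl (h (g4 a) ⟨rfl, rfl⟩)⟩

theorem mix_top (h : Gc ⊤ X) {e : U12 E} (he : e ∈ X) (e0 : e.p0 ≠ 0) (e5 : e.p5 ≠ 0) : X = ⊤ := by
  obtain ⟨hB, hA⟩ := mix_B h he e0 e5
  obtain ⟨M, iM, BM, MQ⟩ := mix_M h he e0 e5
  have g3A : ∀ c : F, (g3 c : U12 E) ∈ EA E := fun c => ⟨rfl, rfl, rfl, rfl⟩
  have cB' : ∀ t ∈ UA.N1 E, ∀ x, ⁅t, x⁆ ∈ E2 E := fun t ht x =>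
    let ⟨a, b, c, _⟩ := UA.c2 ht.1 ht.2 x; ⟨a, b, c⟩
  have cY : ∀ t x : U12 E, ⁅t, x⁆ ∈ UA.N1 E := fun t x => ⟨(UA.c1 ..).1, (UA.c1 ..).2.1⟩
  have hY : UA.N1 E ≤ X := fun t ht => h.chain1 (mem_top t) iM
    (fun x _ => mem_sup_left (BM (cB' t ht x))) fun x hx => by
      rw [cQ ht.1 (MQ hx)]; exact hA (g3A _)
  have hW : ∀ w ∈ Wz X, w ∈ Z E := fun w hw => by
    have wA := MB_EA fun y hy => hw.2.2 y (hY hy)
    have := UA.c4 wA e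
    rw [commutatorElement_eq_one_iff_mul_comm.2 (hw.2.2 e he)] at this
    have h1 : (0 : F) = w.p1 * e.p5 := congrArg U12.p3 this
    exact ⟨wA.1, wA.2.1, wA.2.2.1, wA.2.2.2, (mul_eq_zero.1 h1.symm).resolve_right e5⟩
  have iQ : Iv {f | Au X f} X (X ⊓ Q E) := iv_rc h h.iv_Wz iM inf_le_left
    (fun x hx y hy => by
      rw [cQ hx.2 (MQ hy)]
      exact ⟨hB ⟨rfl, rfl, rfl⟩, sq_B ⟨rfl, rfl, rfl⟩, fun y _ => g3_comm _ y⟩)
    fun x hx k => ⟨hx, nd _ fun b => by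
      have h1 := (MB_flip (hW _ (k (g2 b) (BM ⟨rfl, rfl, rfl⟩)))).2.2.2.2
      rwa [(UA.c3 (y := g2 b) rfl rfl rfl x).2.2.2.2] at h1⟩
  have hQ : Q E ≤ X := fun t ht => h.chain1 (mem_top t) iQ
    (fun x _ => mem_sup_left ⟨hY (cY t x), (cY t x).1⟩) fun x hx => by
      rw [cQ ht hx.2]; exact hA (g3A _)
  have eG : G4 X = UA.N1 E := by
    ext x
    refine ⟨fun hx => ?_, fun hx => ⟨hY hx, fun y _ => by
      rw [pow4_iff, pow4_iff, mul_p0, mul_p5, hx.1, hx.2, zero_add, zero_add]⟩⟩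
    have k : ∀ y ∈ X, y.p0 = 0 ∨ y.p5 = 0 → x.p0 + y.p0 = 0 ∨ x.p5 + y.p5 = 0 := fun y hy e =>
      pow4_iff.1 ((hx.2 y hy).2 (pow4_iff.2 e))
    have x0 : x.p0 = 0 := by
      by_contra n
      have h1 := (k 1 (one_mem X) (.inl rfl)).resolve_left (by simpa using n)
      have h2 := (k (g5 1) (hQ rfl) (.inl rfl)).resolve_left (by simpa [g5] using n)
      simp [g5] at h1 h2
      simp [h1] at h2
    have h3 := k (e * g5 e.p5) (mul_mem he (hQ rfl)) (.inr (by simp [g5, CharTwo.add_self_eq_zero]))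
    exact ⟨x0, by simpa [g5, x0, e0, CharTwo.add_self_eq_zero] using h3⟩
  have iY : Iv {f | Au X f} X (UA.N1 E) := eG ▸ iv_G4 h
  have eW : Wz (UA.N1 E) = EA E := by
    ext w
    refine ⟨fun hw => MB_EA hw.2.2, fun hw => ⟨⟨hw.1, hw.2.1⟩, sq_B ⟨hw.1, hw.2.1, hw.2.2.1⟩,
      fun y hy => commutatorElement_eq_one_iff_mul_comm.1 ?_⟩⟩
    rw [UA.c4 hw, hy.2, mul_zero]; rfl
  have iA : Iv {f | Au X f} X (EA E) := eW ▸ iv_Wz' h iY
  have iC : Iv {f | Au X f} X (MB_C X) := iv_rc h iA h.iv_self (fun _ hx => hx.1) (fun _ hx => hx.2)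
    fun x hx k => ⟨hx, k⟩
  refine eq_top_iff.2 fun t _ => h.chain t (mem_top t) _ _ iY iC (fun x _ => mem_sup_left (cY t x))
    (fun x hx => mem_sup_left (MB_flip ?_)) fun x hx => MB_flip ?_
  · have b := cB' x hx t
    exact ⟨hB b, fun y _ => let ⟨a, b, c, d, _⟩ := UA.c3 b.1 b.2.1 b.2.2 y; ⟨a, b, c, d⟩⟩
  · have x0 : x.p0 = 0 := by
      have := (hx.2 (g5 1) (hQ rfl)).2.2.1
      rw [(UA.c1 ..).2.2] at this
      simpa [g5] using this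
    have x5 : x.p5 = 0 := by
      have := (hx.2 e he).2.2.1
      rw [(UA.c1 ..).2.2] at this
      simpa [x0, e0] using this
    obtain ⟨a, ha⟩ := cr_eq_zero e0 ((UA.c2 x0 x5 e).2.2.2.symm.trans (hx.2 e he).2.2.2)
    obtain ⟨c0, c5, c4, c2⟩ := UA.c2 x0 x5 t
    obtain ⟨y, hy⟩ := exists_cr e0 (c := ⁅x, t⁆.p2) (by
      rw [c2, ha, cr_ι, mul_left_comm, T_ι_mul, cr_comm, T_cr_self, mul_zero])
    obtain ⟨d0, d5, d4, d2⟩ := UA.c2 (x := g4 y) rfl rfl e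
    have dP : ⁅g4 y, e⁆ ∈ Ph X := comm_mem_Ph (hY ⟨rfl, rfl⟩) he
    replace d2 : ⁅g4 y, e⁆.p2 = ⁅x, t⁆.p2 := d2.trans hy
    generalize ⁅g4 y, e⁆ = d at *
    generalize ⁅x, t⁆ = c at *
    have : c * d⁻¹ ∈ EA E := ⟨by simp [c0, d0], by simp [c5, d5], by simp [c0, c4, d0, d4],
      by simp [c0, d0, d2, CharTwo.add_self_eq_zero]⟩
    simpa using mul_mem (hA this) dP

theorem auto_MB : True := by
  have := @MB_C.eq_1.{0, 0}
  trivial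

end H78.Sy
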