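import Mathlib
import Cfsg.Agent.Lib.Sy.Defs

/-!
# Subgroups of `Q` (SY6E QX)
-/

set_option autoImplicit false
set_option linter.unusedSectionVars false
set_option linter.unusedSimpArgs false
set_option linter.unnecessarySeqFocus false

namespace H78.Sy

open H89.D4S H89.D4S.U12 H78.Ofs Subgroup
open scoped commutatorElement

variable {F E : Type*} [Field F] [Field E] [Cub F E] [CharP F 2] [CharP E 2] [Finite F] [Finite E]
  {X : Subgroup (U12 E)}

theorem card_ab (hX : X ≤ Q E) (hc : ∀ x ∈ X, ∀ y ∈ X, x * y = y * x) :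
    Nat.card X ^ 2 ≤ Nat.card E ^ 2 * Nat.card F ^ 4 := by
  let _ : Algebra F E := (ι : F →+* E).toAlgebra
  have sm : ∀ (c : F) (x : E), c • x = ι c * x := fun _ _ => rfl
  let β : LinearMap.BilinForm F (F × E × E × F) := LinearMap.mk₂ F
    (fun u v => u.1 * v.2.2.2 + u.2.2.2 * v.1 + T (u.2.1 * v.2.2.1) + T (u.2.2.1 * v.2.1))
    (fun a b c => by simp only [Prod.fst_add, Prod.snd_add, add_mul, map_add]; ring)
    (fun c a b => by
      simp only [Prod.smul_fst, Prod.smul_snd, sm, mul_assoc, T_ι_mul, smul_eq_mul]; ring)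
    (fun a b c => by simp only [Prod.fst_add, Prod.snd_add, mul_add, map_add]; ring)
    (fun c a b => by
      simp only [Prod.smul_fst, Prod.smul_snd, sm, mul_left_comm _ (ι c), T_ι_mul, smul_eq_mul]; ring)
  have hβ : ∀ u v, β u v = u.1 * v.2.2.2 + u.2.2.2 * v.1 + T (u.2.1 * v.2.2.1) + T (u.2.2.1 * v.2.1) :=
    fun _ _ => rfl
  have rf : β.IsRefl := fun x y e => by
    rw [hβ] at e ⊢
    rw [← e, mul_comm y.2.1, mul_comm y.2.2.1]; ring
  have nd' : β.Nondegenerate := rf.nondegenerate_iff_separatingLeft.2 fun x hx => by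
    refine Prod.ext ?_ (Prod.ext (nd _ fun a => ?_) (Prod.ext (nd _ fun a => ?_) ?_))
    · simpa [hβ] using hx (0, 0, 0, 1)
    · simpa [hβ] using hx (0, 0, a, 0)
    · simpa [hβ] using hx (0, a, 0, 0)
    · simpa [hβ] using hx (1, 0, 0, 0)
  let φ : U12 E → F × E × E × F := fun x => (x.p5, x.p4, x.p2, x.p1)
  let W := Submodule.span F (φ '' (X : Set (U12 E)))
  have h0 : W ≤ β.orthogonal W := (Submodule.span_le (p := β.orthogonal W)).2 (by
    rintro _ ⟨y, hy, rfl⟩ n hn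
    exact (Submodule.span_le (p := LinearMap.ker (β.flip (φ y)))).2 (by
      rintro _ ⟨x, hx, rfl⟩
      exact UA.bf0 (hX hx) (hX hy) (hc x hx y hy)) hn)
  have h1 : Nat.card X ≤ Nat.card (W × F) := Nat.card_le_card_of_injective
    (fun x : X => ((⟨φ x, Submodule.subset_span ⟨x, x.2, rfl⟩⟩, x.1.p3) : W × F)) fun x y e => by
      have e1 : φ x = φ y := congrArg Subtype.val (congrArg Prod.fst e)
      have e2 : x.1.p3 = y.1.p3 := congrArg Prod.snd e
      simp only [φ, Prod.mk.injEq] at e1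
      exact Subtype.ext (U12.ext ((hX x.2).trans (hX y.2).symm) e1.1 e1.2.1 e1.2.2.1 e1.2.2.2 e2)
  have h2 := Submodule.finrank_mono h0
  rw [LinearMap.BilinForm.finrank_orthogonal nd'] at h2
  have h3 : Nat.card W ^ 2 ≤ Nat.card (F × E × E × F) := by
    rw [Module.natCard_eq_pow_finrank (K := F) (V := W),
      Module.natCard_eq_pow_finrank (K := F) (V := F × E × E × F), ← pow_mul]
    have := W.finrank_le
    exact Nat.pow_le_pow_right Nat.card_pos (by omega)
  simp only [Nat.card_prod] at h1 h3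
  calc _ ≤ (Nat.card W * Nat.card F) ^ 2 := Nat.pow_le_pow_left h1 2
    _ = Nat.card W ^ 2 * Nat.card F ^ 2 := by ring
    _ ≤ _ := Nat.mul_le_mul_right _ h3
    _ = _ := by ring

private theorem QX_g3 {M : Subgroup (U12 E)} (h : Gc M X) (hM : UA.N1 E ≤ M) (c : F) : g3 c ∈ X :=
  h.cent (hM ⟨rfl, rfl⟩) fun x _ => g3_comm c x

theorem eq_or_ab {M U : Subgroup (U12 E)} (h : Gc M X) (hU : U = Q E ∨ U = UA.N1 E) (h1 : U ≤ M) (h2 : X ≤ U) :
    X = U ∨ ∀ x ∈ X, ∀ y ∈ X, x * y = y * x := by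
  have hQ : ∀ x ∈ U, x.p0 = 0 := fun x hx => by
    rcases hU with rfl | rfl
    · exact hx
    · exact hx.1
  have hN : UA.N1 E ≤ M := fun x hx => h1 (by
    rcases hU with rfl | rfl
    · exact hx.1
    · exact hx)
  refine or_iff_not_imp_right.2 fun hn => le_antisymm h2 fun t ht => ?_
  push Not at hn
  obtain ⟨x, hx, y, hy, hn⟩ := hn
  have x0 := hQ x (h2 hx)
  have y0 := hQ y (h2 hy)
  have hb : Bf x y ≠ 0 := fun e => hn (by
    rw [comm_Q x0 y0, e]
    exact mul_one _)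
  have hW : ∀ c : F, g3 c ∈ Wz X := fun c =>
    ⟨QX_g3 h hN c, sq_B ⟨rfl, rfl, rfl⟩, fun z _ => g3_comm c z⟩
  have hΦ : ∀ a : F, g3 a ∈ Ph X := fun a => by
    obtain ⟨c, rfl⟩ : ∃ c, a = c * Bf x y := ⟨a / Bf x y, by field_simp⟩
    let s : U12 E := ⟨0, c * x.p5, ι c * x.p4, ι c * x.p2, c * x.p1, 0⟩
    have hs : ∀ w, Bf s w = c * Bf x w := fun w => by
      simp only [Bf, s, mul_assoc, T_ι_mul]; ring
    have sU : s ∈ U := by
      rcases hU with rfl | rfl
      · rfl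
      · exact ⟨rfl, by simp [s, (h2 hx).2]⟩
    have sX : s ∈ X := h.chain1 (h1 sU) h.iv_Wz
      (fun z hz => by rw [cQ rfl (hQ z (h2 hz))]; exact mem_sup_left (hW _))
      fun w hw => by
        have w0 := hQ w (h2 hw.1)
        rw [cQ rfl w0, hs, UA.bf0 x0 w0 (hw.2.2 x hx).symm, mul_zero]
        exact one_mem _
    have := comm_mem_Ph sX hy
    rwa [cQ rfl y0, hs] at this
  exact h.chain0 (h1 ht) fun z hz => by rw [cQ (hQ t ht) (hQ z (h2 hz))]; exact hΦ _

private theorem QX_num {n p x b : ℕ} (hp : 0 < p) (h1 : n ^ 2 * p ≤ x ^ 3) (h2 : x ^ 2 ≤ b) : n ^ 4 ≤ b ^ 3 :=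
  calc n ^ 4 = (n ^ 2 * 1) ^ 2 := by ring
    _ ≤ (x ^ 3) ^ 2 := Nat.pow_le_pow_left ((Nat.mul_le_mul_left _ hp).trans h1) 2
    _ = (x ^ 2) ^ 3 := by ring
    _ ≤ _ := Nat.pow_le_pow_left h2 3

theorem eq_Q (h : Gc (Q E) X) : X = Q E := by
  refine (eq_or_ab h (.inl rfl) le_rfl h.le).resolve_right fun hc => ?_
  have e := QX_num Nat.card_pos (h.f1b h.le le_rfl fun t ht x hx => by
    rw [cQ ht (h.le hx)]; exact QX_g3 h (fun _ hz => hz.1) _) (card_ab h.le hc)
  rw [card_Q] at e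
  have he := two_le_card E
  have hq : 0 < Nat.card F := Nat.card_pos
  generalize Nat.card E = a at *
  generalize Nat.card F = q at *
  have : a ^ 6 * q ^ 12 * a ^ 2 ≤ a ^ 6 * q ^ 12 * 1 := by
    calc _ = (a ^ 2 * q ^ 3) ^ 4 := by ring
      _ ≤ _ := e
      _ = _ := by ring
  have := Nat.le_of_mul_le_mul_left this (by positivity)
  nlinarith

theorem eq_N1 (hc : CG E ∨ CD (F := F) E) (h : Gc (R5 E) X) (hX : X ≤ UA.N1 E) : X = UA.N1 E := by
  have hN : UA.N1 E ≤ R5 E := fun _ hz => hz.2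
  refine (eq_or_ab h (.inr rfl) hN hX).resolve_right fun hab => ?_
  have ab := card_ab (fun x hx => (hX hx).1) hab
  have hq := two_le_card F
  rcases hc with hc | hc
  · have hA : EA E ≤ X := fun a ha => h.cent ha.2.1 fun x hx =>
      commutatorElement_eq_one_iff_mul_comm.1 (by rw [UA.c4 ha, (hX hx).2, mul_zero]; rfl)
    have e := QX_num Nat.card_pos (h.f1b h.le le_rfl fun t ht x hx => by
      obtain ⟨a, b, c, d, _⟩ := cR ht (hX hx).2
      exact hA ⟨a, b, c, by rw [d, hc.cr, hc.cr, add_zero]⟩) ab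
    rw [card_R5, hc.card] at e
    generalize Nat.card F = q at *
    have : q ^ 20 ≤ q ^ 18 := by
      calc _ = (q ^ 3 * q ^ 2) ^ 4 := by ring
        _ ≤ _ := e
        _ = _ := by ring
    have := (Nat.pow_le_pow_iff_right hq).1 this
    omega
  · have e := QX_num Nat.card_pos (h.f1b hX hN fun t ht x hx => by
      rw [cQ ht.1 (hX hx).1]; exact QX_g3 h hN _) ab
    rw [card_N1, show Nat.card E = Nat.card F ^ 3 from hc] at e
    generalize Nat.card F = q at *
    have : q ^ 32 ≤ q ^ 30 := by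
      calc _ = ((q ^ 3) ^ 2 * q ^ 2) ^ 4 := by ring
        _ ≤ _ := e
        _ = _ := by ring
    have := (Nat.pow_le_pow_iff_right hq).1 this
    omega

end H78.Sy
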