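import Mathlib
import Cfsg.Agent.Lib.Sy.QX

/-!
# Subgroups of `R`: the centre (SY6E RA)
-/

set_option autoImplicit false
set_option linter.unusedSectionVars false
set_option linter.unusedSimpArgs false
set_option linter.unnecessarySeqFocus false

namespace H78.Sy

open H89.D4S H89.D4S.U12 H78.Ofs Subgroup
open scoped commutatorElement

variable {F E : Type*} [Field F] [Field E] [Cub F E] [CharP F 2] [CharP E 2] [Finite F] [Finite E]
  {X : Subgroup (U12 E)}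

theorem RA.cA {w x : U12 E} (hw : w ∈ EA E) (hx : x.p5 = 0) : w * x = x * w := by
  rw [← commutatorElement_eq_one_iff_mul_comm, UA.c4 hw, hx, mul_zero]; rfl

theorem RA.g13 {a b : F} (h : (g1 a * g3 b : U12 E) = 1) : a = 0 ∧ b = 0 :=
  ⟨by simpa [g1, g3] using congrArg U12.p1 h, by simpa [g1, g3] using congrArg U12.p3 h⟩

theorem RA.cB0 {b x : U12 E} (hb : b ∈ E2 E) (hx : x.p5 = 0) (h : b * x = x * b) :
    T (x.p0 * b.p2) = 0 ∧ T (x.p4 * b.p2) = 0 :=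
  RA.g13 ((cB hb hx).symm.trans (commutatorElement_eq_one_iff_mul_comm.2 h))

theorem RA.cRB {x y : U12 E} (hx : x.p5 = 0) (hy : y.p5 = 0) : ⁅x, y⁆ ∈ E2 E :=
  let ⟨a, b, c, _⟩ := cR hx hy; ⟨a, b, c⟩

theorem RA.A_le_Wz (h1 : EA E ≤ X) (h2 : X ≤ R5 E) : EA E ≤ Wz X := fun _ hw =>
  ⟨h1 hw, sq_B ⟨hw.1, hw.2.1, hw.2.2.1⟩, fun _ hy => RA.cA hw (h2 hy)⟩

theorem RA.A_le (h : Gc (R5 E) X) : EA E ≤ Wz X :=
  RA.A_le_Wz (fun _ ht => h.cent ht.2.1 fun _ hx => RA.cA ht (h.le hx)) h.le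

theorem RA.pre_Wz {W : Type*} [Group W] {M A : Subgroup W} {θ : W → W} (a : Au M θ) {y : W} (hy : y ∈ M)
    (h : θ y ∈ Wz A) : y ∈ Wz (a.pre A) :=
  ⟨⟨hy, h.1⟩, a.inj _ (mul_mem hy hy) (by rw [a.mul _ hy _ hy, h.2.1]), fun z hz =>
    a.eq (mul_mem hy hz.1) (mul_mem hz.1 hy) (by rw [a.mul _ hy _ hz.1, a.mul _ hz.1 _ hy, h.2.2 _ hz.2])⟩

theorem RA.cc (c : F) (w : U12 E) : g5 c * (g5 c * w * (g5 c)⁻¹) * (g5 c)⁻¹ = w := by
  have e : (g5 c : U12 E) * g5 c = 1 := by ext <;> simp [g5, CharTwo.add_self_eq_zero]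
  calc _ = g5 c * g5 c * w * (g5 c * g5 c)⁻¹ := by group
    _ = w := by rw [e]; group

theorem RA.core (hc : CG E ∨ CD (F := F) E) (h : Gc (R5 E) X) {w : U12 E} (hw : w ∈ Wz X) (h0 : w.p0 = 0) :
    w.p4 = 0 := by
  by_contra h4
  have h5 : w.p5 = 0 := h.le hw.1
  have hN : X ≤ UA.N1 E := fun x hx => by
    obtain ⟨-, -, -, e2, e1, -⟩ := cR h5 (h.le hx : x.p5 = 0)
    rw [commutatorElement_eq_one_iff_mul_comm.2 (hw.2.2 x hx), h0] at e1 e2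
    obtain ⟨c, e⟩ := cr_eq_zero h4 (x := x.p0) (by simpa using e2.symm)
    have t := (inv_R5 hw.2.1 h5).2.2
    rw [h0, zero_mul, map_zero] at t
    have n : T (sh x.p0 * w.p4) = c ^ 2 * N w.p4 := by
      rw [e, sh_mul, sh_ι, mul_assoc, T_ι_mul, mul_comm (sh _), T_mul_sh]
    rw [n, e, mul_assoc, T_ι_mul, t] at e1
    have c0 : c = 0 := by simpa [N_eq_zero, h4] using e1.symm
    exact ⟨by rw [e, c0, map_zero, zero_mul], h.le hx⟩
  refine h4 (nd _ fun a => ?_)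
  have hg : g2 a ∈ X := (eq_N1 hc h hN).ge ⟨rfl, rfl⟩
  exact (RA.cB0 (b := g2 a) ⟨rfl, rfl, rfl⟩ h5 (hw.2.2 _ hg).symm).2

theorem Wz_le_B (hc : CG E ∨ CD (F := F) E) (h : Gc (R5 E) X) : Wz X ≤ E2 E := by
  intro w hw
  have h5 : w.p5 = 0 := h.le hw.1
  by_cases h0 : w.p0 = 0
  · exact ⟨h0, h5, RA.core hc h hw h0⟩
  obtain ⟨c, e⟩ := cr_eq_zero h0 (inv_R5 hw.2.1 h5).1
  obtain ⟨a0, a5, a4⟩ := cj5 c h5
  have k0 : (g5 c * w * (g5 c)⁻¹).p4 = 0 := by rw [a4, e, CharTwo.add_self_eq_zero]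
  have k1 : g5 c * (g5 c * w * (g5 c)⁻¹) * (g5 c)⁻¹ ∈ Wz X := by rwa [RA.cc]
  have k2 : nb (nb (g5 c * w * (g5 c)⁻¹)) ∈ Wz ((au_conj (R5 E) (g5 c)).pre X) := by
    rw [nb_nb a5]
    exact RA.pre_Wz _ a5 k1
  have k3 := RA.core hc ((h.pre (au_conj _ (g5 c))).pre au_nb) (RA.pre_Wz au_nb rfl k2) k0
  have k : (g5 c * w * (g5 c)⁻¹).p0 = 0 := k3
  exact absurd (a0.symm.trans k) h0

theorem B_le (hc : CG E ∨ CD (F := F) E) (h : Gc (R5 E) X) : E2 E ≤ X := by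
  intro t ht
  refine h.chain1 ht.2.1 h.iv_Wz (fun x hx => mem_sup_left (RA.A_le h ?_)) fun x hx => ?_
  · obtain ⟨a, b, c, d, -⟩ := UA.c3 ht.1 ht.2.1 ht.2.2 x
    exact ⟨a, b, c, d⟩
  · obtain ⟨a, b, c⟩ := Wz_le_B hc h hx
    rw [cB ht b, a, c, zero_mul, map_zero, show (g1 0 * g3 0 : U12 E) = 1 by ext <;> simp [g1, g3]]
    exact one_mem _

theorem eq_R_G (hc : CG E) (h : Gc (R5 E) X) : X = R5 E := by
  have hB := B_le (F := F) (.inl hc) h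
  have nB : ¬ X ≤ E2 E := fun hX => by
    have e := h.f1b h.le le_rfl fun t ht x hx => hB (RA.cRB ht (h.le hx))
    have e' := card_le_of_le hX
    rw [card_E2, hc.card] at e'
    rw [card_R5, hc.card] at e
    have p : 0 < Nat.card (Ph X) := Nat.card_pos
    have k : Nat.card F ^ 10 ≤ Nat.card F ^ 9 :=
      calc Nat.card F ^ 10 = (Nat.card F ^ 3 * Nat.card F ^ 2) ^ 2 * 1 := by ring
        _ ≤ Nat.card X ^ 3 := (Nat.mul_le_mul_left _ p).trans e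
        _ ≤ (Nat.card F * Nat.card F ^ 2) ^ 3 := Nat.pow_le_pow_left e' 3
        _ = Nat.card F ^ 9 := by ring
    exact absurd ((Nat.pow_le_pow_iff_right (two_le_card F)).1 k) (by norm_num)
  obtain ⟨x, hx, hx'⟩ := SetLike.not_le_iff_exists.1 nB
  have hW : Wz X ≤ EA E := fun w hw => by
    have hb := Wz_le_B (F := F) (.inl hc) h hw
    obtain ⟨e0, e4⟩ := RA.cB0 hb (h.le hx) (hw.2.2 x hx)
    refine ⟨hb.1, hb.2.1, hb.2.2, by_contra fun h2 => hx' ⟨?_, h.le hx, ?_⟩⟩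
    · obtain ⟨d, e⟩ := hc.1 (x.p0 * w.p2)
      rw [← e, T_ι] at e0
      rw [e0, map_zero] at e
      exact (mul_eq_zero.1 e.symm).resolve_right h2
    · obtain ⟨d, e⟩ := hc.1 (x.p4 * w.p2)
      rw [← e, T_ι] at e4
      rw [e4, map_zero] at e
      exact (mul_eq_zero.1 e.symm).resolve_right h2
  refine le_antisymm h.le fun t ht => h.chain1 ht h.iv_Wz (fun y hy => mem_sup_left (RA.A_le h ?_))
    fun y hy => ?_
  · obtain ⟨a, b, c, d, -⟩ := cR ht (h.le hy : y.p5 = 0)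
    exact ⟨a, b, c, by rw [d, hc.cr, hc.cr, add_zero]⟩
  · rw [commutatorElement_eq_one_iff_mul_comm.2 (RA.cA (hW hy) ht).symm]
    exact one_mem _

theorem eq_Yv (hc : CD (F := F) E) (h : Gc (R5 E) X) {c : F} (hX : X ≤ Yv c) : X = Yv c := by
  have e := eq_N1 (F := F) (.inr hc) ((h.pre (au_conj _ (g5 c))).pre au_nb) fun y hy => by
    obtain ⟨a0, -, a4⟩ := cj5 c (x := nb y) rfl
    have k := (hX hy.2.2).2
    rw [a0, a4] at k
    exact ⟨add_eq_right.1 k, hy.1⟩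
  refine le_antisymm hX fun x hx => ?_
  obtain ⟨a0, a5, a4⟩ := cj5 c hx.1
  have k : nb (g5 c * x * (g5 c)⁻¹) ∈ UA.N1 E :=
    ⟨a4.trans (by rw [hx.2, CharTwo.add_self_eq_zero]), rfl⟩
  have k' : g5 c * nb (nb (g5 c * x * (g5 c)⁻¹)) * (g5 c)⁻¹ ∈ X := (e.ge k).2.2
  rwa [nb_nb a5, RA.cc] at k'

theorem not_f2 (hc : CD (F := F) E) (c : F) : ¬ F2 (Yv c : Subgroup (U12 E)) := by
  intro hF
  have hB : E2 E ≤ Yv c := fun b hb => ⟨hb.2.1, by rw [hb.1, hb.2.2, mul_zero]⟩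
  have hR : Yv c ≤ R5 E := fun _ hx => hx.1
  have hW : Wz (Yv c : Subgroup (U12 E)) = EA E := by
    refine le_antisymm (fun w hw => ?_) (RA.A_le_Wz (fun a ha => hB ⟨ha.1, ha.2.1, ha.2.2.1⟩) hR)
    have hb := mem_E2_of_comm (hw.2.2 _ (hB ⟨rfl, rfl, rfl⟩)) fun a => hw.2.2 _ (hB ⟨rfl, rfl, rfl⟩)
    refine ⟨hb.1, hb.2.1, hb.2.2, nd _ fun a => ?_⟩
    rw [mul_comm]
    exact (RA.cB0 (x := ⟨a, 0, ι c * a, 0, 0, 0⟩) hb rfl (hw.2.2 _ ⟨rfl, rfl⟩)).1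
  have hN : normalizer ((Yv c : Subgroup (U12 E)) : Set (U12 E)) = R5 E := by
    refine le_antisymm (fun t ht => ?_) fun t ht => tl2_norm fun x hx => hB (RA.cRB ht hx.1)
    have hx : (⟨1, 0, ι c * 1, 0, 0, 0⟩ : U12 E) ∈ Yv c := ⟨rfl, rfl⟩
    have k := (mul_mem ((mem_normalizer_iff.1 ht _).1 hx) (inv_mem hx)).2
    obtain ⟨a0, -, a4⟩ := UA.c1 t ⟨1, 0, ι c * 1, 0, 0, 0⟩
    rw [← commutatorElement_def, a0, a4] at k
    simpa using k
  have cC : ∀ b ∈ E2 E, T (1 * b.p2) = 0 → b ∈ E2 E ⊓ centralizer {(g4 1 : U12 E)} := fun b hb e => by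
    refine ⟨hb, mem_centralizer_singleton_iff.2 (commutatorElement_eq_one_iff_mul_comm.1 ?_)⟩
    rw [cB hb rfl, show (g4 1 : U12 E).p0 = 0 from rfl, show (g4 1 : U12 E).p4 = 1 from rfl, e, zero_mul,
      map_zero]
    ext <;> simp [g1, g3]
  have k := hF (Ph_le_of fun x hx => by
      obtain ⟨a, b, d, e⟩ := sq4 x
      rw [hW]
      exact ⟨a, b, by rw [d, hx.1, map_zero, zero_mul],
        by rw [e, hx.1, hx.2, map_zero, zero_mul, add_zero, cr_ι, cr_self, mul_zero]⟩)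
    (fun t ht => by
      rw [hN] at ht
      obtain ⟨a, b, d, -⟩ := sq4 t
      rw [hW]
      exact ⟨hB ⟨a, b, by rw [d, show t.p5 = 0 from ht, map_zero, zero_mul]⟩, fun a ha => (RA.cA ha ht).symm⟩)
    (g4 1) (hN.ge rfl) (fun e => one_ne_zero (e.2.trans (mul_zero _))) (E2 E ⊓ centralizer {g4 1})
    (hW.trans_le fun a ha => cC a ⟨ha.1, ha.2.1, ha.2.2.1⟩ (by rw [ha.2.2.2, mul_zero, map_zero]))
    fun x hx => cC _ (RA.cRB rfl hx.1) (by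
      rw [(cR (x := g4 1) rfl hx.1).2.2.2.1, show (g4 1 : U12 E).p0 = 0 from rfl,
        show (g4 1 : U12 E).p4 = 1 from rfl, zero_cr, zero_add, T_cr_self])
  have c1 : Nat.card (E2 E ⊓ centralizer {(g4 1 : U12 E)} : Subgroup (U12 E)) ≤
      Nat.card F ^ 2 * (Nat.card F * Nat.card F) := by
    rw [← card_ker hc (k := 1) one_ne_zero, ← Nat.card_prod, ← Nat.card_prod]
    refine Nat.card_le_card_of_injective (fun x => (⟨x.1.p2, (RA.cB0 (x := g4 1) x.2.1 rfl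
      (mem_centralizer_singleton_iff.1 x.2.2)).2⟩, x.1.p1, x.1.p3)) fun x y e => Subtype.ext ?_
    simp only [Prod.mk.injEq] at e
    exact U12.ext (x.2.1.1.trans y.2.1.1.symm) (x.2.1.2.1.trans y.2.1.2.1.symm)
      (x.2.1.2.2.trans y.2.1.2.2.symm) (congrArg Subtype.val e.1) e.2.1 e.2.2
  have c2 : Nat.card (Yv c : Subgroup (U12 E)) ≤ Nat.card E * (Nat.card E * (Nat.card F * Nat.card F)) := by
    rw [← Nat.card_prod, ← Nat.card_prod, ← Nat.card_prod]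
    refine card_le _ (fun x => (x.p0, x.p2, x.p1, x.p3)) fun x hx y hy e => ?_
    simp only [Prod.mk.injEq] at e
    exact U12.ext e.1 (hx.1.trans hy.1.symm) (by rw [hx.2, hy.2, e.1]) e.2.1 e.2.2.1 e.2.2.2
  have c3 := tl2_rel hR
  rw [hN, hW, card_EA] at k
  rw [card_R5] at c3
  rw [show Nat.card E = Nat.card F ^ 3 from hc] at c2 c3
  have k' : Nat.card F ^ 13 ≤ Nat.card F ^ 12 :=
    calc Nat.card F ^ 13 = (Nat.card F ^ 3) ^ 3 * Nat.card F ^ 2 * Nat.card F ^ 2 := by ring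
      _ = (Yv c).relIndex (R5 E) * Nat.card F ^ 2 * Nat.card (Yv c : Subgroup (U12 E)) := by
        rw [← c3]; ring
      _ ≤ _ := Nat.mul_le_mul (k.trans c1) c2
      _ = Nat.card F ^ 12 := by ring
  exact absurd ((Nat.pow_le_pow_iff_right (two_le_card F)).1 k') (by norm_num)

theorem A_le_Ph (hB : E2 E ≤ X) (hR : X ≤ R5 E) (h1 : ¬ X ≤ UA.N1 E) (h2 : ∀ c : F, ¬ X ≤ Yv c) :
    EA E ≤ Ph X := by
  obtain ⟨x, hx, hx'⟩ := SetLike.not_le_iff_exists.1 h1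
  obtain ⟨b, hb⟩ := exists_T (x := x.p0) (fun e => hx' ⟨e, hR hx⟩) (1 : F)
  obtain ⟨y, hy, hy'⟩ := SetLike.not_le_iff_exists.1 (h2 (T (x.p4 * b)))
  obtain ⟨b', hb'⟩ := exists_T (x := y.p4 + ι (T (x.p4 * b)) * y.p0)
    (fun e => hy' ⟨hR hy, CharTwo.add_eq_zero.1 e⟩) (1 : F)
  rw [add_mul, map_add, mul_assoc, T_ι_mul] at hb'
  have k : ∀ z ∈ X, ∀ (l : F) (d : E), (g1 (l * T (z.p0 * d)) * g3 (l * T (z.p4 * d)) : U12 E) ∈ Ph X :=
    fun z hz l d => by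
      have e := comm_mem_Ph (hB (show g2 (ι l * d) ∈ E2 E from ⟨rfl, rfl, rfl⟩)) hz
      rw [cB ⟨rfl, rfl, rfl⟩ (hR hz), show (g2 (ι l * d) : U12 E).p2 = ι l * d from rfl, mul_left_comm z.p0,
        mul_left_comm z.p4, T_ι_mul, T_ι_mul] at e
      exact e
  intro w hw
  obtain ⟨a1, a3, rfl⟩ := mem_EA'.1 hw
  have e := mul_mem (k x hx (a1 + (a3 + T (x.p4 * b) * a1) * T (y.p0 * b')) b)
    (k y hy (a3 + T (x.p4 * b) * a1) b')
  rw [hb] at e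
  convert e using 1
  ext <;> simp [g1, g3] <;> grind

end H78.Sy
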