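import Mathlib
import Cfsg.Agent.Lib.Sy.Defs

/-!
# Subgroups of `R` centralising a short root subgroup (SY6E RB)
-/

set_option autoImplicit false
set_option linter.unusedSectionVars false
set_option linter.unusedSimpArgs false
set_option linter.unnecessarySeqFocus false

namespace H78.Sy

open H89.D4S H89.D4S.U12 H78.Ofs Subgroup
open scoped commutatorElement

variable {F E : Type*} [Field F] [Field E] [Cub F E] [CharP F 2] [CharP E 2] [Finite F] [Finite E]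
  {X : Subgroup (U12 E)}

theorem rb_A {b x : U12 E} (hb : b ∈ E2 E) (hx : x.p5 = 0) : ⁅b, x⁆ ∈ EA E :=
  mem_EA'.2 ⟨_, _, cB hb hx⟩

theorem rb_A' {b x : U12 E} (hb : b ∈ E2 E) (hx : x.p5 = 0) : ⁅x, b⁆ ∈ EA E := by
  rw [← commutatorElement_inv]
  exact inv_mem (rb_A hb hx)

theorem rb_B {t x : U12 E} (ht : t.p5 = 0) (hx : x.p5 = 0) : ⁅t, x⁆ ∈ E2 E :=
  let ⟨a, b, c, _⟩ := cR ht hx; ⟨a, b, c⟩

theorem rb_T (a : F) (x y : E) : T (x * (ι a * y)) = a * T (y * x) := by cubK E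

theorem rb_s (hc : CD (F := F) E) {z u : E} (hz : z ≠ 0) (hu : u ≠ 0) : ∃ s, T (z * s) = 0 ∧ cr u s ≠ 0 := by
  by_contra k
  push Not at k
  choose g hg using fun s : {x : E | T (z * x) = 0} => cr_eq_zero hu (k s s.2)
  have := Nat.card_le_card_of_injective g fun a b e => Subtype.ext (by rw [hg a, hg b, e])
  rw [card_ker hc hz] at this
  have := two_le_card F
  nlinarith

theorem rb_sq {a b n : F} (hn : n ≠ 0) (h : a ^ 2 * n = b ^ 2 * n) : a = b := by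
  have := mul_right_cancel₀ hn h
  have e : (a - b) ^ 2 = 0 := by
    rw [CharTwo.sub_eq_add, CharTwo.add_sq, this, CharTwo.add_self_eq_zero]
  exact sub_eq_zero.1 (pow_eq_zero_iff two_ne_zero |>.1 e)

theorem rb_inj (hc : CD (F := F) E) {z : E} (hz : z ≠ 0) {y : U12 E} (hy : y ∈ R0 z) (h2 : y * y = 1)
    (hB : y ∉ E2 E) : ∃ x : F × F × F → U12 E, (∀ v, x v ∈ R0 z) ∧ Function.Injective fun v => ⁅y, x v⁆ := by
  obtain ⟨y5, y0, y4⟩ := hy
  obtain ⟨i1, i2, i3⟩ := inv_R5 h2 y5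
  by_cases h0 : y.p0 = 0
  · have hu : y.p4 ≠ 0 := fun e => hB ⟨h0, y5, e⟩
    obtain ⟨s, s1, s2⟩ := rb_s hc hz hu
    obtain ⟨r, hr⟩ := exists_T hu (1 : F)
    rw [h0, zero_mul, map_zero] at i3
    refine ⟨fun v => ⟨ι v.1 * y.p4 + ι v.2.1 * s, 0, 0, ι v.2.2 * r, 0, 0⟩, fun v => ⟨rfl, ?_, by simp⟩, ?_⟩
    · show T (z * (ι v.1 * y.p4 + ι v.2.1 * s)) = 0
      rw [mul_add, map_add, rb_T, rb_T, mul_comm y.p4, mul_comm s, y4, s1, mul_zero, mul_zero, add_zero]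
    have key : ∀ α β γ : F, let c := ⁅y, (⟨ι α * y.p4 + ι β * s, 0, 0, ι γ * r, 0, 0⟩ : U12 E)⁆
        c.p2 = ι β * cr y.p4 s ∧
        c.p1 = α * T (y.p4 * y.p2) + α ^ 2 * N y.p4 + (β * T (s * y.p2) + β ^ 2 * T (sh s * y.p4)) ∧
        c.p3 = γ * T (y.p4 * r) + α * N y.p4 + β * T (s * sh y.p4) := fun α β γ => by
      obtain ⟨-, -, -, a, b, c⟩ := cR (y := (⟨ι α * y.p4 + ι β * s, 0, 0, ι γ * r, 0, 0⟩ : U12 E)) y5 rfl
      refine ⟨a.trans ?_, b.trans ?_, c.trans ?_⟩ <;> simp only [h0]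
      · cub
      · cubK E
      · cubK E
    rintro ⟨α, β, γ⟩ ⟨α', β', γ'⟩ e
    obtain ⟨a, b, c⟩ := key α β γ
    obtain ⟨a', b', c'⟩ := key α' β' γ'
    simp only at e a b c a' b' c'
    rw [e] at a b c
    obtain rfl : β = β' := ι_inj (mul_right_cancel₀ s2 (a.symm.trans a'))
    rw [i3] at b b'
    obtain rfl : α = α' := rb_sq (mt N_eq_zero.1 hu) (by linear_combination b' - b)
    rw [hr] at c c'
    obtain rfl : γ = γ' := by linear_combination c' - c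
    rfl
  · obtain ⟨k, hk⟩ := cr_eq_zero h0 i1
    obtain ⟨s, s1, s2⟩ := rb_s hc hz h0
    obtain ⟨r, hr⟩ := exists_T h0 (1 : F)
    have i4 : T (y.p0 * y.p2) = k * N y.p0 := by
      rw [i2, hk]
      cubK E
    refine ⟨fun v => ⟨0, 0, ι v.1 * y.p0 + ι v.2.1 * s, ι v.2.2 * r, 0, 0⟩, fun v => ⟨rfl, by simp, ?_⟩, ?_⟩
    · show T (z * (ι v.1 * y.p0 + ι v.2.1 * s)) = 0
      rw [mul_add, map_add, rb_T, rb_T, mul_comm y.p0, mul_comm s, y0, s1, mul_zero, mul_zero, add_zero]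
    have key : ∀ α β γ : F, let c := ⁅y, (⟨0, 0, ι α * y.p0 + ι β * s, ι γ * r, 0, 0⟩ : U12 E)⁆
        c.p2 = ι β * cr y.p0 s ∧
        c.p1 = γ * T (y.p0 * r) + α * N y.p0 + β * T (sh y.p0 * s) ∧
        c.p3 = k * γ * T (y.p0 * r) + α * T (y.p0 * y.p2) + α ^ 2 * N y.p0 +
          (β * T (s * y.p2) + β ^ 2 * T (y.p0 * sh s)) := fun α β γ => by
      obtain ⟨-, -, -, a, b, c⟩ := cR (y := (⟨0, 0, ι α * y.p0 + ι β * s, ι γ * r, 0, 0⟩ : U12 E)) y5 rfl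
      refine ⟨a.trans ?_, b.trans ?_, c.trans ?_⟩ <;> simp only [hk]
      · cub
      · cubK E
      · cubK E
    rintro ⟨α, β, γ⟩ ⟨α', β', γ'⟩ e
    obtain ⟨a, b, c⟩ := key α β γ
    obtain ⟨a', b', c'⟩ := key α' β' γ'
    simp only at e a b c a' b' c'
    rw [e] at a b c
    obtain rfl : β = β' := ι_inj (mul_right_cancel₀ s2 (a.symm.trans a'))
    rw [hr] at b b' c c'
    rw [i4] at c c'
    obtain rfl : α = α' := rb_sq (mt N_eq_zero.1 h0) (by linear_combination c' - c - k * (b' - b))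
    obtain rfl : γ = γ' := by linear_combination b' - b
    rfl

theorem not_R0 (hc : CD (F := F) E) (h : Gc (R5 E) X) (hB : E2 E ≤ X) (hW : Wz X ≤ E2 E) (hA : EA E ≤ Ph X)
    {z : E} (hz : z ≠ 0) : ¬ X ≤ R0 z := by
  intro hX
  have h1 : R0 z ≤ X := fun t ht => h.chain1 ht.1 h.iv_Wz (fun x hx => mem_sup_left (by
    have hx' := hX hx
    have b := rb_B ht.1 hx'.1
    refine ⟨hB b, sq_B b, fun y hy => ?_⟩
    obtain ⟨k, hk⟩ := cr_eq_zero (x := ⁅t, x⁆.p2) hz (by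
      rw [cr_comm, (cR ht.1 hx'.1).2.2.2.1, add_cr, cr_cr, cr_cr, mul_comm t.p0, mul_comm x.p4, mul_comm t.p4,
        mul_comm x.p0, ht.2.1, ht.2.2, hx'.2.1, hx'.2.2]
      simp)
    have e := cB b (hX hy).1
    rw [hk, rb_T, rb_T, (hX hy).2.1, (hX hy).2.2, mul_zero] at e
    rw [← commutatorElement_eq_one_iff_mul_comm, e]
    ext <;> simp [g1, g3])) fun w hw => hA (rb_A' (hW hw) ht.1)
  have h2 : Iv {f | Au X f} X (E2 E) := ⟨hB, fun f a b hb => by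
    by_contra k
    obtain ⟨x, hx, i⟩ := rb_inj hc hz (hX (a.mem b (hB hb)))
      (by rw [← a.mul _ (hB hb) _ (hB hb), sq_B hb, a.one]) k
    choose x' m e using fun v => a.surj (h1 (hx v))
    have := le_card (EA E) (fun v => ⁅b, x' v⁆) (fun v => rb_A hb (hX (m v)).1) fun v w q => i (by
      simp only at q ⊢
      rw [← e, ← e, ← a.comm (hB hb) (m v), ← a.comm (hB hb) (m w), q])
    rw [card_EA, Nat.card_prod, Nat.card_prod] at this
    have := two_le_card F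
    nlinarith⟩
  obtain ⟨a, ha⟩ := exists_T hz (1 : F)
  have m : g0 a ∈ X := h.chain1 (t := g0 a) rfl h2 (fun x hx => mem_sup_left (rb_B rfl (hX hx).1))
    fun b hb => hA (rb_A' hb rfl)
  exact one_ne_zero (ha.symm.trans (hX m).2.1)

end H78.Sy
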