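import Mathlib
import Cfsg.Agent.Lib.Sy.Defs

/-!
# Subgroups of `R` with small centre (SY6E RC)
-/

set_option autoImplicit false
set_option linter.unusedSectionVars false
set_option linter.unusedSimpArgs false
set_option linter.unnecessarySeqFocus false

namespace H78.Sy

open H89.D4S H89.D4S.U12 H78.Ofs Subgroup
open scoped commutatorElement

variable {F E : Type*} [Field F] [Field E] [Cub F E] [CharP F 2] [CharP E 2] [Finite F] [Finite E]
  {X : Subgroup (U12 E)}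

/-- the second centre -/
def rcM (X : Subgroup (U12 E)) (h : X ≤ R5 E) : Subgroup (U12 E) where
  carrier := {x | x ∈ X ∧ ∀ y ∈ X, cr x.p0 y.p4 + cr x.p4 y.p0 = 0}
  mul_mem' := fun {a b} ha hb => ⟨mul_mem ha.1 hb.1, fun y hy => by
    have e1 := ha.2 y hy
    have e2 := hb.2 y hy
    have e : b.p5 = 0 := h hb.1
    simp only [mul_p0, mul_p4, e, map_zero, zero_mul, add_zero, add_cr]
    grind⟩
  one_mem' := ⟨one_mem X, fun y _ => by simp⟩
  inv_mem' := fun {a} ha => ⟨inv_mem ha.1, fun y hy => by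
    have e : a.p5 = 0 := h ha.1
    simpa [e] using ha.2 y hy⟩

theorem auto_rc : True := by
  have := @rcM.eq_1.{0, 0}
  trivial

theorem rc_B {t x : U12 E} (ht : t ∈ R5 E) (hx : x ∈ R5 E) : ⁅t, x⁆ ∈ E2 E :=
  let ⟨a, b, c, _⟩ := cR ht hx; ⟨a, b, c⟩

theorem rc_A {t x : U12 E} (hx : x ∈ E2 E) : ⁅t, x⁆ ∈ EA E := by
  rw [← commutatorElement_inv]
  obtain ⟨a, b, c, d, -⟩ := UA.c3 hx.1 hx.2.1 hx.2.2 t
  exact inv_mem ⟨a, b, c, d⟩

theorem rc_big (hc : CD (F := F) E) (h : Gc (R5 E) X) (hB : E2 E ≤ X) :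
    Nat.card F ^ 22 * Nat.card (Ph X) ≤ Nat.card X ^ 3 := by
  have := h.f1b h.le le_rfl fun t ht x hx => hB (rc_B ht (h.le hx))
  rw [card_R5, hc] at this
  convert this using 2
  ring

theorem rc_free (hc : CD (F := F) E) (h : Gc (R5 E) X) (hB : E2 E ≤ X) (hA : EA E ≤ Ph X) {m : U12 E}
    (hm : m ∈ rcM X h.le) : cr m.p0 m.p4 = 0 := by
  by_contra h0
  have m0 : m.p0 ≠ 0 := fun e => h0 (by simp [e])
  let β : E × E →+ E := AddMonoidHom.mk' (fun v => cr m.p0 v.2 + cr m.p4 v.1) fun a b => by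
    simp only [Prod.fst_add, Prod.snd_add, cr_add]; ring
  have k := CF.card_hom β fun w => by
    obtain ⟨r, hr⟩ := exists_T h0 (T (m.p0 * w))
    obtain ⟨b, hb⟩ := exists_cr (c := w + cr m.p4 r) m0 (by
      rw [mul_add, map_add, ← T_cr, hr, CharTwo.add_self_eq_zero])
    exact ⟨(r, b), by
      change cr m.p0 b + cr m.p4 r = w
      rw [hb, add_assoc, CharTwo.add_self_eq_zero, add_zero]⟩
  rw [Nat.card_prod] at k
  have k1 : Nat.card X ≤ Nat.card (β.ker × E × F × F) := Nat.card_le_card_of_injective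
    (fun x => (⟨(x.1.p0, x.1.p4), hm.2 x x.2⟩, x.1.p2, x.1.p1, x.1.p3)) fun x y e => by
      simp only [Prod.mk.injEq] at e
      have e1 := Prod.mk.inj (congrArg Subtype.val e.1)
      exact Subtype.ext (U12.ext e1.1 ((h.le x.2).trans (h.le y.2).symm) e1.2 e.2.1 e.2.2.1 e.2.2.2)
  simp only [Nat.card_prod] at k1
  rw [Nat.eq_of_mul_eq_mul_right Nat.card_pos k, hc] at k1
  have k2 : Nat.card (EA E) < Nat.card (Ph X) := lt_of_not_ge fun e => h0 (by
    have := (eq_of_le_of_card_ge hA e).ge (sq_mem_Ph hm.1)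
    have e2 := this.2.2.2
    rwa [(sq4 m).2.2.2, show m.p5 = 0 from h.le hm.1, map_zero, zero_mul, add_zero] at e2)
  rw [card_EA] at k2
  have k3 := (rc_big hc h hB).trans (Nat.pow_le_pow_left k1 3)
  rw [show (Nat.card F ^ 3 * (Nat.card F ^ 3 * (Nat.card F * Nat.card F))) ^ 3 =
    Nat.card F ^ 22 * Nat.card F ^ 2 by ring] at k3
  exact absurd (Nat.le_of_mul_le_mul_left k3 (pow_pos Nat.card_pos _)) k2.not_ge

theorem rc_line (hc : CD (F := F) E) (h : Gc (R5 E) X) (hB : E2 E ≤ X) (hA : EA E ≤ Ph X) {m : U12 E}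
    (hm : m ∈ rcM X h.le) {α β γ δ : F} {u : E} (hu : u ≠ 0) (hd : α * γ + β * δ = 1) (e0 : m.p0 = ι α * u)
    (e4 : m.p4 = ι β * u) {y : U12 E} (hy : y ∈ rcM X h.le) : ∃ a b : F, y.p0 = ι a * u ∧ y.p4 = ι b * u := by
  have hd' : (ι α * ι γ + ι β * ι δ : E) = 1 := by rw [← map_mul, ← map_mul, ← map_add, hd, map_one]
  obtain ⟨k, hk⟩ : ∃ k : U12 E → E, ∀ x, k x = ι γ * x.p0 + ι δ * x.p4 := ⟨_, fun _ => rfl⟩
  obtain ⟨l, hl⟩ : ∃ l : U12 E → E, ∀ x, l x = ι β * x.p0 + ι α * x.p4 := ⟨_, fun _ => rfl⟩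
  have c0 : ∀ x, x.p0 = ι α * k x + ι δ * l x := fun x => by rw [hk, hl]; grind
  have c4 : ∀ x, x.p4 = ι β * k x + ι γ * l x := fun x => by rw [hk, hl]; grind
  have ω : ∀ x ∈ X, cr (k y) (l x) + cr (l y) (k x) = 0 := fun x hx => by
    have := hy.2 x hx
    simp only [hk, hl, add_cr, cr_add, cr_ι, ι_cr]
    grind
  have h1 : ∀ x ∈ X, ∃ a : F, l x = ι a * u := fun x hx => cr_eq_zero hu (by
    have := hm.2 x hx
    rw [e0, e4, ι_cr, ι_cr] at this
    rw [hl, cr_add, cr_ι, cr_ι, add_comm, this])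
  have h2 : l y = 0 := by
    by_contra n
    obtain ⟨a, ha⟩ := h1 y hy.1
    have a0 : (ι a : E) ≠ 0 := fun e => n (by rw [ha, e, zero_mul])
    have k1 := card_le X (fun x => (T (l x * u⁻¹), T (k x * u⁻¹), x.p2, x.p1, x.p3)) fun x hx z hz e => by
      simp only [Prod.mk.injEq] at e
      obtain ⟨b, hb⟩ := h1 x hx
      obtain ⟨c, hc⟩ := h1 z hz
      have l1 : l x = l z := by
        have := e.1
        rw [hb, hc, mul_inv_cancel_right₀ hu, mul_inv_cancel_right₀ hu, T_ι, T_ι] at this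
        rw [hb, hc, this]
      obtain ⟨d, hd⟩ := cr_eq_zero (x := k x + k z) hu (mul_left_cancel₀ a0 (by
        have w1 := ω x hx
        have w2 := ω z hz
        rw [ha, ι_cr, l1] at w1
        rw [ha, ι_cr] at w2
        rw [cr_add]
        grind))
      have l2 : k x = k z := by
        have := congrArg (fun v => T (v * u⁻¹)) hd
        simp only [add_mul, map_add, e.2.1, mul_inv_cancel_right₀ hu, T_ι, CharTwo.add_self_eq_zero] at this
        rwa [← this, map_zero, zero_mul, CharTwo.add_eq_zero] at hd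
      exact U12.ext (by rw [c0, c0 z, l1, l2]) ((h.le hx).trans (h.le hz).symm) (by rw [c4, c4 z, l1, l2])
        e.2.2.1 e.2.2.2.1 e.2.2.2.2
    simp only [Nat.card_prod] at k1
    rw [hc] at k1
    have k2 := Subgroup.card_le_of_le hA
    rw [card_EA] at k2
    have k3 := ((Nat.mul_le_mul_left _ k2).trans (rc_big hc h hB)).trans (Nat.pow_le_pow_left k1 3)
    rw [show (Nat.card F * (Nat.card F * (Nat.card F ^ 3 * (Nat.card F * Nat.card F)))) ^ 3 =
      Nat.card F ^ 21 by ring, ← pow_add] at k3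
    exact absurd k3 (Nat.pow_lt_pow_right (two_le_card F) (by norm_num)).not_ge
  obtain ⟨x, hx, n⟩ : ∃ x ∈ X, l x ≠ 0 := by
    by_contra! n
    let C : Subgroup (U12 E) :=
      { carrier := {a | a ∈ EA E ∧ β * a.p1 + α * a.p3 = 0}
        mul_mem' := fun {a b} ha hb => ⟨mul_mem ha.1 hb.1, by
          obtain ⟨⟨a0, a5, a4, a2⟩, a1⟩ := ha
          obtain ⟨⟨b0, b5, b4, b2⟩, b1⟩ := hb
          simp [a0, a2, b5]
          grind⟩
        one_mem' := ⟨one_mem _, by simp⟩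
        inv_mem' := fun {a} ha => ⟨inv_mem ha.1, by
          obtain ⟨⟨a0, a5, a4, a2⟩, a1⟩ := ha
          simpa [a0, a5, a4] using a1⟩ }
    have : Ph X ≤ C := Ph_le_of fun x hx => by
      have x5 : x.p5 = 0 := h.le hx
      have x0 := c0 x
      have x4 := c4 x
      rw [n x hx, mul_zero, add_zero] at x0 x4
      obtain ⟨s0, s5, s4, s2⟩ := sq4 x
      refine ⟨⟨s0, s5, by simp [s4, x5], by rw [s2, x0, x4, cr_ι, ι_cr]; simp [x5]⟩, ι_inj (J := E) ?_⟩
      generalize k x = v at x0 x4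
      u12s
      simp only [x5, x0, x4]
      cub
    have e := (this (hA (show (⟨0, 0, 0, 0, δ, γ⟩ : U12 E) ∈ EA E from ⟨rfl, rfl, rfl, rfl⟩))).2
    change β * δ + α * γ = 0 at e
    rw [add_comm, hd] at e
    exact one_ne_zero e
  obtain ⟨a, ha⟩ := h1 x hx
  obtain ⟨c, hc⟩ := cr_eq_zero (x := k y) hu (mul_left_cancel₀ (a := (ι a : E))
    (fun e => n (by rw [ha, e, zero_mul])) (by
      have := ω x hx
      rwa [h2, zero_cr, add_zero, ha, cr_ι, cr_comm, ← mul_zero (ι a : E)] at this))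
  exact ⟨α * c, β * c, by rw [c0, h2, hc, map_mul]; ring, by rw [c4, h2, hc, map_mul]; ring⟩

theorem eq_R_D (hc : CD (F := F) E) (h : Gc (R5 E) X) (hB : E2 E ≤ X) (hA : EA E ≤ Ph X)
    (hW : ∀ w ∈ Wz X, w ∈ EA E) : X = R5 E := by
  have AW : ∀ a ∈ EA E, a ∈ Wz X := fun a ha => ⟨Ph_le X (hA ha), sq_B ⟨ha.1, ha.2.1, ha.2.2.1⟩, fun y hy =>
    commutatorElement_eq_one_iff_mul_comm.1 (by rw [UA.c4 ha, show y.p5 = 0 from h.le hy, mul_zero]; rfl)⟩
  have iM : Iv {f | Au X f} X (rcM X h.le) := iv_rc h h.iv_Wz h.iv_self (fun x hx => hx.1)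
    (fun x hx y hy => AW _ (let ⟨a, b, c, d, _⟩ := cR (h.le hx.1) (h.le hy); ⟨a, b, c, d.trans (hx.2 y hy)⟩))
    fun x hx k => ⟨hx, fun y hy => (cR (h.le hx) (h.le hy)).2.2.2.1.symm.trans (hW _ (k y hy)).2.2.2⟩
  have BM : E2 E ≤ rcM X h.le := fun b hb => ⟨hB hb, fun y _ => by simp [hb.1, hb.2.2]⟩
  refine le_antisymm h.le fun t ht => ?_
  have k0 : ∀ x ∈ X, ⁅t, x⁆ ∈ rcM X h.le ⊔ Ph X := fun x hx => mem_sup_left (BM (rc_B ht (h.le hx)))
  by_cases hM : rcM X h.le ≤ E2 E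
  · exact h.chain1 ht iM k0 fun x hx => hA (rc_A (hM hx))
  obtain ⟨m, hm, hn⟩ := SetLike.not_le_iff_exists.1 hM
  obtain ⟨u, k⟩ : ∃ u : E, ∀ y ∈ rcM X h.le, ∃ a b : F, y.p0 = ι a * u ∧ y.p4 = ι b * u := by
    by_cases m0 : m.p0 = 0
    · exact ⟨m.p4, fun y hy => rc_line hc h hB hA hm (α := 0) (β := 1) (γ := 0) (δ := 1)
        (fun e => hn ⟨m0, h.le hm.1, e⟩) (by simp) (by simp [m0]) (by simp) hy⟩
    · obtain ⟨c, e⟩ := cr_eq_zero m0 (rc_free hc h hB hA hm)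
      exact ⟨m.p0, fun y hy => rc_line hc h hB hA hm (α := 1) (β := c) (γ := 1) (δ := 0) m0 (by simp)
        (by simp) e hy⟩
  refine h.chain t ht _ _ iM (iv_Wz' h iM) k0 (fun x hx => mem_sup_left ?_) fun x hx => hA (rc_A ?_)
  · have b := rc_B ht (h.le hx.1)
    refine ⟨BM b, sq_B b, fun y hy => commutatorElement_eq_one_iff_mul_comm.1 ?_⟩
    obtain ⟨a0, a4, e0, e4⟩ := k x hx
    obtain ⟨b0, b4, f0, f4⟩ := k y hy
    have z : T (u * ⁅t, x⁆.p2) = 0 := by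
      rw [(cR ht (h.le hx.1)).2.2.2.1, e0, e4]
      cubK E
    rw [cB b (h.le hy.1), f0, f4, mul_assoc, mul_assoc, T_ι_mul, T_ι_mul, z, mul_zero, mul_zero]
    exact mul_one _
  · exact mem_E2_of_comm (hx.2.2 _ (BM ⟨rfl, rfl, rfl⟩)) fun a => hx.2.2 _ (BM ⟨rfl, rfl, rfl⟩)

end H78.Sy
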