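import Mathlib
import Cfsg.Agent.Lib.Sy.Defs

/-!
# Essential subgroups: the commutator bound (SY6E T3)
-/

set_option autoImplicit false
set_option linter.unusedSectionVars false

namespace H78.Sy

open H78.Ofs Subgroup
open scoped commutatorElement

variable {W Γ : Type*} [Group W] [Finite W] [Group Γ] [Finite Γ] {ι : W →* Γ} {X : Subgroup W}

section T3

open H93.SX H93.R3 H2 H90 H91
open H68 (SylowIn)

local notation:max "𝐍(" A ")" => Subgroup.normalizer (SetLike.coe A)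
local notation:max "𝐂(" A ")" => Subgroup.centralizer (SetLike.coe A)

theorem t3_co.{u} {W : Type u} [Group W] [Finite W] {E A : Subgroup W} (hA : Ph E ≤ A) :
    ∃ (M : Type u) (_ : AddCommGroup M) (_ : Module (ZMod 2) M) (_ : Finite M) (c : W → M),
      (∀ x ∈ E, ∀ y ∈ E, c (x * y) = c x + c y) ∧ (∀ m, ∃ x ∈ E, c x = m) ∧
      (∀ x ∈ E, c x = 0 ↔ x ∈ A) := by
  classical
  haveI : (A.subgroupOf E).Normal := ⟨fun n hn g => by
    have := mul_mem (hA (comm_mem_Ph g.2 n.2)) (mem_subgroupOf.1 hn)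
    simpa [mem_subgroupOf, commutatorElement_def] using this⟩
  letI : CommGroup (E ⧸ A.subgroupOf E) := { QuotientGroup.Quotient.group _ with
    mul_comm := fun a b => by
      obtain ⟨a, rfl⟩ := QuotientGroup.mk_surjective a
      obtain ⟨b, rfl⟩ := QuotientGroup.mk_surjective b
      rw [← QuotientGroup.mk_mul, ← QuotientGroup.mk_mul, QuotientGroup.eq, mem_subgroupOf]
      simpa [commutatorElement_def, mul_assoc] using hA (comm_mem_Ph (inv_mem b.2) (inv_mem a.2)) }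
  refine ⟨Additive (E ⧸ A.subgroupOf E), inferInstance, AddCommGroup.zmodModule fun a => ?_,
    inferInstance, fun x => if h : x ∈ E then Additive.ofMul (QuotientGroup.mk ⟨x, h⟩) else 0,
    fun x hx y hy => ?_, fun a => ?_, fun x hx => ?_⟩
  · obtain ⟨a, rfl⟩ := Additive.ofMul.surjective a
    obtain ⟨a, rfl⟩ := QuotientGroup.mk_surjective a
    rw [two_nsmul, ← ofMul_mul, ← QuotientGroup.mk_mul, ofMul_eq_zero, QuotientGroup.eq_one_iff]
    exact hA (sq_mem_Ph a.2)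
  · simp only [dif_pos hx, dif_pos hy, dif_pos (mul_mem hx hy)]
    rfl
  · obtain ⟨a, rfl⟩ := Additive.ofMul.surjective a
    obtain ⟨a, rfl⟩ := QuotientGroup.mk_surjective a
    exact ⟨a, a.2, by simp only [dif_pos a.2]⟩
  · simp only [dif_pos hx]
    rw [ofMul_eq_zero, QuotientGroup.eq_one_iff, mem_subgroupOf]

theorem t3_main {E A : Subgroup W} (F : Cf 2 ι) (h : Es 2 ι E) (hA : Ph E ≤ A) (hAE : A ≤ E)
    (nA : nr ι E ≤ nr ι A) (hN : ∀ t ∈ 𝐍(E), t * t ∈ E ∧ ∀ a ∈ A, t * a = a * t) {t : W} (ht : t ∈ 𝐍(E))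
    (ht' : t ∉ E) {C : Subgroup W} (hC : A ≤ C) (hc : ∀ x ∈ E, ⁅t, x⁆ ∈ C) :
    E.relIndex 𝐍(E) * Nat.card A ≤ Nat.card C := by
  obtain ⟨V, _, _, _, c, c1, c2, c3⟩ := t3_co hA
  have o : Co ι E c := ⟨c1, c2, fun g hg x hx y hy e e' =>
    (c3 y hy).2 (e.mem F.inj (nA hg) ((c3 x hx).1 e'))⟩
  set N0 := nr ι E ⊓ 𝐂(A.map ι) with hN0
  choose f hf using fun g : N0 => o.exists_ac g.2.1
  let ρ : N0 →* V ≃ₗ[ℤ] V := MonoidHom.mk' f fun a b => o.uniq (hf _) ((hf a).mul (hf b))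
  haveI : Finite ρ.range := Finite.of_surjective _ ρ.rangeRestrict_surjective
  obtain ⟨M, h1, h2, h3, h4⟩ := exists_emb F.pr F.sat h
  set K := N0 ⊓ relCentralizer (E.map ι) (A.map ι) with hK
  have k0 : ∀ g : N0, g ∈ ρ.rangeRestrict.ker ↔ (g : Γ) ∈ K := fun g => by
    rw [MonoidHom.ker_rangeRestrict, MonoidHom.mem_ker]
    refine ⟨fun e => ⟨g.2, mem_rc_map (nA g.2.1) fun x hx => ?_⟩, fun e => o.uniq (hf g)
      ⟨g.2.1, fun x hx y hy e' => ?_⟩⟩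
    · obtain ⟨y, hy, e'⟩ := nr_cj g.2.1 hx
      have := (hf g).2 x hx y hy e'
      rw [show f g = 1 from e, one_smul] at this
      exact ⟨y, e', (c3 _ (mul_mem hy (inv_mem hx))).1 (by rw [o.div hy hx, this, sub_self])⟩
    · obtain ⟨z, hz, e1⟩ := e.2.2 _ ⟨x, hx, rfl⟩
      have : z = y * x⁻¹ := F.inj (by rw [e1, map_mul, map_inv, ← e']; rfl)
      rw [one_smul, eq_comm, ← sub_eq_zero, ← o.div hy hx, c3 _ (mul_mem hy (inv_mem hx))]
      exact this ▸ hz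
  have k1 : ∀ x ∈ K, (orderOf x).Coprime 2 → x ∈ 𝐂(E.map ι) := fun x hx o => mem_cent fun y hy =>
    mem_bot.1 (comm_mem_of_coprime (F.pm A) o (norm_bot ⊤ (mem_top x)) (hx.2.2 y hy) fun z hz =>
      mem_bot.2 (comm_eq_one hx.1.2 hz))
  have nN : nr ι E ≤ 𝐍(N0) := norm_inf (norm_norm le_rfl) (norm_cent nA)
  have nK : nr ι E ≤ 𝐍(K) := norm_inf nN (norm_rc le_rfl nA)
  have k2 : (ι.range ⊓ nr ι E) ⊓ K ≤ E.map ι := fun t ht => by
    by_contra e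
    exact h2 fun g hg => h4 _ ht.1 e _ ht.1 e g hg K (inf_le_left.trans inf_le_left) k1 ht.2
      (conj_mem (nK hg) ht.2)
  have hE : E.map ι ≤ ι.range ⊓ nr ι E := le_inf (map_le_range ι E) le_normalizer
  have back : ∀ x : W, ι x ∈ nr ι E → x ∈ 𝐍(E) := fun x hx =>
    mem_norm fun y hy => (Cj.self x y).mem F.inj hx hy
  have hT : ι.range ⊓ nr ι E ≤ N0 := by
    rintro _ ⟨⟨x, rfl⟩, hx⟩
    exact ⟨hx, cent_of_cj fun a ha => by
      have := Cj.self (ι := ι) x a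
      rwa [(hN x (back x hx)).2 a ha, mul_inv_cancel_right] at this⟩
  have hCN : 𝐂(E.map ι) ≤ N0 := le_inf (cent_le_norm _) (cent_anti (map_mono hAE))
  have kC : 𝐂(E.map ι) ≤ K := fun g hg => ⟨hCN hg, nA (cent_le_norm _ hg),
    fun y hy => comm_eq_one hg hy ▸ one_mem _⟩
  have kE : E.map ι ≤ K := fun g hg => ⟨hT (hE hg), nA (le_normalizer hg), fun y hy =>
    map_mono hA (tl1_ph F ▸ comm_mem (eq_ph (F.pm E)).comm hg hy)⟩
  have k3 : K ≤ M := by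
    refine le_of_syl (p := 2) (J := E.map ι ⊔ 𝐂(E.map ι)) (sup_le kE kC) ?_
      (le_trans (sup_le_sup_right (le_inf le_normalizer (norm_self hE)) _) h1)
      fun x hx o => h1 (mem_sup_right (k1 x hx o))
    have a1 := lg_sup (p := 2) ((inf_le_right (a := ι.range)).trans nK)
    have a2 := lg_sup (p := 2) ((inf_le_right (a := ι.range)).trans
      (norm_sup le_rfl (norm_cent (X := E.map ι) le_rfl)))
    have a3 := lg_mono (p := 2) (k2.trans (le_inf hE (le_sup_left (b := 𝐂(E.map ι)))))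
    have a4 := lg_mono (p := 2) (sup_le_sup_left (le_sup_right (a := E.map ι) (b := 𝐂(E.map ι)))
      (ι.range ⊓ nr ι E))
    have a5 := lg_norm F.pr F.sat h.2.1
    have a6 : lg 2 (ι.range ⊓ nr ι E ⊔ K) ≤ lg 2 (nr ι E) :=
      lg_mono (sup_le inf_le_right (inf_le_left.trans inf_le_left))
    clear_value K
    unfold nr at *
    omega
  have fw : ∀ x : 𝐍(E), ι x ∈ nr ι E := fun x => self_nr fun y hy => comm_mem_r x.2 hy
  let j : 𝐍(E) →* N0 := (ι.comp 𝐍(E).subtype).codRestrict _ fun x => hT ⟨⟨x, rfl⟩, fw x⟩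
  have hj : ∀ g : N0, g ∈ j.range ↔ (g : Γ) ∈ ι.range := fun g =>
    ⟨by rintro ⟨x, rfl⟩; exact ⟨x, rfl⟩, fun ⟨x, e⟩ => ⟨⟨x, back x (e ▸ g.2.1)⟩, Subtype.ext e⟩⟩
  obtain ⟨P, p1, p2, p3⟩ := exists_syl (F.pr.to_le inf_le_left)
    (le_sup_left : ι.range ⊓ nr ι E ≤ _ ⊔ 𝐂(E.map ι))
  have hS : SylowIn 2 (j.range.map ρ.rangeRestrict) ⊤ := by
    have := (H68.sylowIn_top (p3 N0 (sup_le hT hCN)
      ((lg_mono inf_le_left).trans (lg_norm F.pr F.sat h.2.1))).toSylow).map ρ.rangeRestrict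
    rw [← MonoidHom.range_eq_map, MonoidHom.range_eq_top.2 ρ.rangeRestrict_surjective] at this
    convert this using 1
    refine le_antisymm (map_mono fun g hg => p1 ⟨(hj g).1 hg, g.2.1⟩) ?_
    rintro _ ⟨g, hg, rfl⟩
    obtain ⟨a, ha, b, hb, e⟩ := (mem_sup_iff' (inf_le_right.trans (norm_cent le_rfl))).1 (p2 hg)
    refine ⟨⟨a, hT ha⟩, (hj _).2 ha.1, ?_⟩
    rw [show g = ⟨a, hT ha⟩ * ⟨b, hCN hb⟩ from Subtype.ext e, map_mul,
      MonoidHom.mem_ker.1 ((k0 ⟨b, hCN hb⟩).2 (kC hb)), mul_one]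
  have t1 : ι t ∈ ι.range ⊓ nr ι E := ⟨⟨t, rfl⟩, fw ⟨t, ht⟩⟩
  have t2 : ι t ∉ E.map ι := mt (mem_map_iff_mem F.inj).1 ht'
  have se := tl1_se ρ.rangeRestrict ρ.rangeRestrict_surjective (M := M.subgroupOf N0) hS
    (fun g hg => h1 (mem_sup_left ⟨g.2.1, le_normalizer ⟨(hj g).1 hg, g.2.1⟩⟩))
    (fun g hg => k3 ((k0 g).1 hg))
    (fun e => h2 fun a ha => h3 _ t1 t2 a ha (subgroupOf_eq_top.1 e (conj_mem' (nN ha) (hT t1))))
    (fun e => t2 (k2 ⟨t1, (k0 ⟨_, hT t1⟩).1 (e ((hj _).2 t1.1))⟩))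
    fun t ht e a ha => h3 t ⟨(hj t).1 ht, t.2.1⟩ (fun e' => e ((k0 t).2 (kE e'))) a a.2.1 ha
  let σ : Representation (ZMod 2) ρ.range V :=
    { toFun := fun g => (g.1.toLinearMap.toAddMonoidHom).toZModLinearMap 2
      map_one' := rfl
      map_mul' := fun _ _ => rfl }
  obtain ⟨k, hk⟩ := IsPGroup.iff_card.1 hS.isPGroup
  have sq : ∀ z ∈ j.range.map ρ.rangeRestrict, z * z = 1 := by
    rintro _ ⟨_, ⟨x, rfl⟩, rfl⟩
    rw [← map_mul, ← map_mul]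
    exact (k0 _).2 (kE ⟨_, (hN x x.2).1, rfl⟩)
  have zS : j.range.map ρ.rangeRestrict ⊓ 𝐂(j.range.map ρ.rangeRestrict) = j.range.map ρ.rangeRestrict :=
    inf_eq_left.2 fun a ha b hb => by
      rw [← inv_eq_of_mul_eq_one_right (sq _ (mul_mem hb ha)), mul_inv_rev,
        inv_eq_of_mul_eq_one_right (sq _ ha), inv_eq_of_mul_eq_one_right (sq _ hb)]
  have b1 := (Cfsg.Agent.S3841.result _ se hS.toSylowTop σ (fun a b e =>
    Subtype.ext (LinearEquiv.ext fun v => LinearMap.congr_fun e v))).2 k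
      (fun z hz => by rw [pow_two]; exact sq z hz.1) ((congrArg (fun A : Subgroup ρ.range => Nat.card A) zS).trans hk)
      (ρ.rangeRestrict (j ⟨t, ht⟩)) ⟨_, ⟨_, rfl⟩, rfl⟩ fun e => t2 (k2 ⟨t1, (k0 _).1 e⟩)
  have b2 : E.relIndex 𝐍(E) = 2 ^ k := by
    rw [← hk, ← MonoidHom.range_comp, ← index_ker, relIndex]
    congr 1
    ext x
    rw [MonoidHom.mem_ker, MonoidHom.comp_apply, ← MonoidHom.mem_ker, k0, mem_subgroupOf]
    exact ⟨fun e => kE ⟨_, e, rfl⟩, fun e => (mem_map_iff_mem F.inj).1 (k2 ⟨⟨⟨_, rfl⟩, e.1.1⟩, e⟩)⟩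
  have b3 : ∀ v : LinearMap.range (σ (ρ.rangeRestrict (j ⟨t, ht⟩)) - 1), ∃ y ∈ E ⊓ C, c y = v := by
    rintro ⟨_, v, rfl⟩
    obtain ⟨x, hx, rfl⟩ := c2 v
    refine ⟨⁅t, x⁆, ⟨comm_mem_r ht hx, hc x hx⟩, ?_⟩
    rw [commutatorElement_def, o.div (conj_mem ht hx) hx,
      ← (hf (j ⟨t, ht⟩)).2 x hx _ (conj_mem ht hx) (Cj.self t x)]
    rfl
  choose s s1 s2 using b3
  have b4 := Nat.card_le_card_of_injective (fun v : _ × A => (⟨s v.1 * v.2, mul_mem (s1 _).2 (hC v.2.2)⟩ : C))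
    fun v w e => by
      have e1 : s v.1 * v.2 = s w.1 * w.2 := congrArg Subtype.val e
      have e2 := congrArg c e1
      rw [c1 _ (s1 _).1 _ (hAE v.2.2), c1 _ (s1 _).1 _ (hAE w.2.2), (c3 _ (hAE v.2.2)).2 v.2.2,
        (c3 _ (hAE w.2.2)).2 w.2.2, add_zero, add_zero, s2, s2] at e2
      have e3 : v.1 = w.1 := Subtype.ext e2
      rw [e3] at e1
      exact Prod.ext e3 (Subtype.ext (mul_left_cancel e1))
  rw [Nat.card_prod, Module.natCard_eq_pow_finrank (K := ZMod 2), Nat.card_zmod] at b4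
  rw [b2]
  exact (Nat.mul_le_mul_right _ (Nat.pow_le_pow_right two_pos b1)).trans b4

end T3

theorem es_f2 (F : H93.SX.Cf 2 ι) (h : H93.SX.Es 2 ι X) : F2 X := fun h1 h2 _ ht ht' _ hC hc =>
  t3_main F h h1 (fun _ hx => hx.1) (tl1_iv (tl1_main F h).iv_Wz) h2 ht ht' hC hc

end H78.Sy
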