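import Mathlib
import Cfsg.Agent.Lib.Sy.T3
import Cfsg.Agent.Lib.Sy.RA
import Cfsg.Agent.Lib.Sy.RB
import Cfsg.Agent.Lib.Sy.RC
import Cfsg.Agent.Lib.Sy.MB

/-!
# The essential subgroups are `Q` and `R` (SY6E ES)
-/

set_option autoImplicit false
set_option linter.unusedSectionVars false

namespace H78.Sy

open H89.D4S H89.D4S.U12 H78.Ofs Subgroup
open H93.SX (Cf Es)
open scoped commutatorElement

variable {F E : Type*} [Field F] [Field E] [Cub F E] [CharP F 2] [CharP E 2] [Finite F] [Finite E]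
  {X : Subgroup (U12 E)} {Γ : Type*} [Group Γ] [Finite Γ] {φ : U12 E →* Γ}

theorem es_QR (hc : CG E ∨ CD (F := F) E) (c : Cf 2 φ) (h : Es 2 φ X) : X = Q E ∨ X = R5 E := by
  obtain ⟨𝒜, g, -⟩ := es_gd c h
  by_cases h0 : X ≤ Q E
  · exact .inl (eq_Q (g.top.mono h0 le_top))
  by_cases h5 : X ≤ R5 E
  · have k := g.top.mono h5 le_top
    refine .inr (hc.elim (fun hc => eq_R_G hc k) fun hd => ?_)
    have hB := B_le hc k
    have hA := A_le_Ph hB h5 (fun e => h0 fun x hx => (e hx).1) fun a e =>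
      not_f2 hd a (eq_Yv hd k e ▸ es_f2 c h)
    refine eq_R_D hd k hB hA fun w hw => ?_
    have hw' := Wz_le_B hc k hw
    refine ⟨hw'.1, hw'.2.1, hw'.2.2, by_contra fun e => not_R0 hd k hB (Wz_le_B hc k) hA e fun x hx => ?_⟩
    have e1 := cB hw' (h5 hx)
    rw [commutatorElement_eq_one_iff_mul_comm.2 (hw.2.2 x hx)] at e1
    exact ⟨h5 hx, by simpa [g1, g3, mul_comm] using (congrArg U12.p1 e1).symm,
      by simpa [g1, g3, mul_comm] using (congrArg U12.p3 e1).symm⟩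
  obtain ⟨e, he, e0, e5⟩ := exists_mix h0 h5
  exact (h.ne c (mix_top g.top he e0 e5)).elim

end H78.Sy
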