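import Mathlib
import Cfsg.Agent.Lib.Sy.ES
import Cfsg.Agent.Lib.LocStruct.SylowIn

/-!
# Alperin's theorem over the model (SY6H AL)
-/

set_option autoImplicit false
set_option linter.unusedSectionVars false
set_option linter.unusedSimpArgs false
set_option linter.unnecessarySeqFocus false

namespace H78.Sy

open H89.D4S H89.D4S.U12 H78.Ofs Subgroup
open H93.SX (Cj nr)
open H69 (IsSylowIn)
open scoped commutatorElement

variable {F E G : Type*} [Field F] [Field E] [Cub F E] [CharP F 2] [CharP E 2] [Finite F] [Finite E]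
  [Group G] [Finite G] {φ : U12 E →* G}

theorem nr_au (inj : Function.Injective φ) {M : Subgroup (U12 E)} {g : G} (hg : g ∈ nr φ M) :
    ∃ f, Au M f ∧ ∀ x ∈ M, Cj φ g x (f x) := by
  choose! f hf e using fun x (hx : x ∈ M) => H93.SX.nr_cj hg hx
  refine ⟨f, ⟨hf, fun x hx y hy => (e _ (mul_mem hx hy)).uniq inj ((e x hx).mul (e y hy)), fun x hx k => ?_⟩, e⟩
  have := e x hx
  rw [k, Cj, map_one, conj_eq_one_iff] at this
  exact inj (this.trans (map_one φ).symm)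

theorem al_rc {W : Type*} [Group W] [Finite W] {f : W → W} (a : Au ⊤ f) {A B C : Subgroup W}
    (hA : ∀ x ∈ A, f x ∈ A) (hB : ∀ x ∈ B, f x ∈ B) (h : ∀ x, x ∈ C ↔ ∀ y ∈ B, ⁅x, y⁆ ∈ A) :
    ∀ x ∈ C, f x ∈ C := fun x hx => (h _).2 fun y hy => by
  obtain ⟨y, hy', rfl⟩ := (⟨hB, fun x _ y _ => a.mul x trivial y trivial, fun x _ => a.inj x trivial⟩ :
    Au B f).surj hy
  rw [← a.comm trivial trivial]
  exact hA _ ((h x).1 hx y hy')

theorem au_top {f : U12 E → U12 E} (a : Au ⊤ f) : (∀ x ∈ Z E, f x ∈ Z E) ∧ (∀ x ∈ UA.N1 E, f x ∈ UA.N1 E) ∧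
    (∀ x ∈ Q E, f x ∈ Q E) ∧ (∀ x ∈ EA E, f x ∈ EA E) ∧ ∀ x ∈ R5 E, f x ∈ R5 E := by
  have hb : ∀ x ∈ (⊥ : Subgroup (U12 E)), f x ∈ (⊥ : Subgroup (U12 E)) := fun x hx => by
    rw [mem_bot] at hx ⊢; rw [hx, a.one]
  have cb : ∀ x y : U12 E, ⁅x, y⁆ ∈ (⊥ : Subgroup (U12 E)) ↔ x * y = y * x := fun x y =>
    mem_bot.trans commutatorElement_eq_one_iff_mul_comm
  have hZ : ∀ x ∈ Z E, f x ∈ Z E := al_rc a hb a.mem fun x =>
    ⟨fun h y _ => (cb ..).2 (by obtain ⟨c, rfl⟩ := mem_Z'.1 h; exact g3_comm c y),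
      fun h => mem_Z_of_comm fun y => (cb ..).1 (h y trivial)⟩
  have hY : ∀ x ∈ UA.N1 E, f x ∈ UA.N1 E := fun x hx => by
    have k : ∀ y, (f x * y) ^ 4 = 1 ↔ y ^ 4 = 1 := fun y => by
      obtain ⟨y, -, rfl⟩ := a.surj (mem_top y)
      rw [← a.mul x trivial y trivial, au_pow4 a trivial, au_pow4 a trivial, pow4_iff, pow4_iff]
      simp [hx.1, hx.2]
    have k1 := pow4_iff.1 ((k 1).2 (one_pow 4))
    have k0 := pow4_iff.1 ((k (g0 1)).2 (pow4_iff.2 (.inr rfl)))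
    have k5 := pow4_iff.1 ((k (g5 1)).2 (pow4_iff.2 (.inl rfl)))
    generalize f x = u at *
    simp only [mul_p0, mul_p5, g0, g5, add_zero, mul_one] at k0 k1 k5
    rcases k1 with e | e
    · exact ⟨e, k0.resolve_left (by simp [e])⟩
    · exact ⟨k5.resolve_right (by simp [e]), e⟩
  have hA : ∀ x ∈ EA E, f x ∈ EA E := al_rc a hb hY fun x =>
    ⟨fun h y hy => by rw [UA.c4 h, hy.2, mul_zero]; rfl, fun h => by
      obtain ⟨h0, h5, h4⟩ := mem_E2_of_comm ((cb ..).1 (h (g1 1) ⟨rfl, rfl⟩))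
        fun a => (cb ..).1 (h (g2 a) ⟨rfl, rfl⟩)
      exact ⟨h0, h5, h4, Cub.nd _ fun a => by
        simpa [g4, h0, h5, h4] using congrArg U12.p3 ((cb ..).1 (h (g4 a) ⟨rfl, rfl⟩))⟩⟩
  refine ⟨hZ, hY, al_rc a hZ hY fun x => ⟨fun h y hy => ?_, fun h => Cub.nd _ fun b => ?_⟩, hA,
    al_rc a hb hA fun x => ⟨fun h y hy => ?_, fun h => ?_⟩⟩
  · rw [cQ h hy.1]; exact mem_Z'.2 ⟨_, rfl⟩
  · have := (inv_mem (h (g2 b) ⟨rfl, rfl⟩)).2.2.2.2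
    rwa [commutatorElement_inv, (UA.c3 (y := g2 b) rfl rfl rfl x).2.2.2.2] at this
  · rw [← inv_mem_iff, commutatorElement_inv, UA.c4 hy, show x.p5 = 0 from h, mul_zero]; rfl
  · have := inv_mem (h (g1 1) ⟨rfl, rfl, rfl, rfl⟩)
    rw [commutatorElement_inv, UA.c4 (w := g1 1) ⟨rfl, rfl, rfl, rfl⟩, mem_bot] at this
    simpa [g1, g3] using congrArg U12.p3 this

theorem al_cf (inj : Function.Injective φ) {H : Subgroup G} (hS : IsSylowIn 2 φ.range H) :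
    H93.SX.Cf 2 (φ.codRestrict H fun x => hS.le ⟨x, rfl⟩) := by
  refine ⟨fun x y e => inj (congrArg Subtype.val e), isP, ?_⟩
  obtain ⟨P, hP⟩ := hS.exists_sylow_subgroupOf
  have : (φ.codRestrict H fun x => hS.le ⟨x, rfl⟩).range = P := by
    rw [hP]
    ext g
    exact ⟨fun ⟨x, e⟩ => ⟨x, congrArg Subtype.val e⟩, fun ⟨x, e⟩ => ⟨x, Subtype.ext e⟩⟩
  rw [this]
  exact H93.isSaturated_groupFusionSystem P

theorem al_cj {H : Subgroup G} {k : ∀ x, φ x ∈ H} {g : H} {x y : U12 E} :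
    Cj (φ.codRestrict H k) g x y ↔ Cj φ g x y := Subtype.ext_iff

theorem al_nr {H : Subgroup G} {k : ∀ x, φ x ∈ H} {g : H} {M : Subgroup (U12 E)}
    (h : g ∈ nr (φ.codRestrict H k) M) : (g : G) ∈ nr φ M := H93.SX.mem_nr fun _ hx =>
  let ⟨y, hy, e⟩ := H93.SX.nr_cj h hx; ⟨y, hy, al_cj.1 e⟩

theorem alp (hc : CG E ∨ CD (F := F) E) (inj : Function.Injective φ) {H : Subgroup G}
    (hS : IsSylowIn 2 φ.range H) (P : U12 E → Prop)
    (h : ∀ M, (M = ⊤ ∨ M = Q E ∨ M = R5 E) → ∀ g ∈ H, g ∈ nr φ M → ∀ x ∈ M, ∀ y, Cj φ g x y → P x → P y) :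
    ∀ g ∈ H, ∀ x y, Cj φ g x y → P x → P y := by
  intro g hg x y e
  have c := al_cf inj hS
  set ψ := φ.codRestrict H fun x => hS.le ⟨x, rfl⟩
  have e' : Cj ψ ⟨g, hg⟩ x y := al_cj.2 e
  obtain ⟨σ, hk, e1⟩ := H90.alperin_induction c.pr c.sat (P := (zpowers x).map ψ) (f := H90.cj (⟨g, hg⟩ : H))
    (C := fun R σ => ∀ x y, ψ x ∈ R → σ (ψ x) = ψ y → P x → P y)
    (fun R R' σ hR hσ hP x y hx e2 => by
      obtain ⟨k, hk, e3⟩ := H93.R3.norm_of_iso hσ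
      have h7 := map_comap_eq_self hσ.1.le
      refine h (R'.comap ψ) (hR.imp (fun e => eq_top_iff.2 fun x _ => e.ge ⟨x, rfl⟩)
        fun e => es_QR hc c (by rwa [H93.SX.Es, h7])) k k.2 (al_nr (by rwa [nr, h7])) x (hP hx) y
        (al_cj.1 ((e3 _ (hP hx)).symm.trans e2)))
    (fun R R' σ τ hσ _ hk hl m x y hx e2 => by
      obtain ⟨z, hz⟩ := hσ.mem hx
      exact fun p => hl z y (hz ▸ m _ hx) (hz ▸ e2) (hk x z hx hz.symm p))
    (H90.map_group.2 ⟨map_le_range ψ _, by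
      rintro _ ⟨_, ⟨n, rfl⟩, rfl⟩
      refine ⟨y ^ n, ?_⟩
      rw [map_zpow, ← e', conj_zpow, map_zpow]; rfl, _, fun _ _ => rfl⟩)
  exact hk x y ⟨x, mem_zpowers x, rfl⟩ ((e1 _ ⟨x, mem_zpowers x, rfl⟩).trans e')

theorem alp_sub (hc : CG E ∨ CD (F := F) E) (inj : Function.Injective φ) {H L : Subgroup G}
    (hS : IsSylowIn 2 φ.range H) (h : ∀ M, (M = ⊤ ∨ M = Q E ∨ M = R5 E) → H ⊓ nr φ M ≤ L)
    {X : Subgroup (U12 E)} {g : G} (hg : g ∈ H) (hX : ∀ x ∈ X, ∃ y, Cj φ g x y) :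
    ∃ k ∈ L, ∀ x ∈ X, ∀ y, Cj φ g x y → Cj φ k x y := by
  have c := al_cf inj hS
  have hL : ∀ x, φ x ∈ L := fun x => h ⊤ (.inl rfl) ⟨hS.le ⟨x, rfl⟩, H93.SX.self_nr fun _ _ => trivial⟩
  obtain ⟨k, hk⟩ := c.alperin (ι' := φ.codRestrict L hL) (g := ⟨g, hg⟩) (X := X)
    (fun M hM k hk => ⟨⟨k, h M (hM.imp_right (es_QR hc c)) ⟨k.2, al_nr hk⟩⟩,
      fun x _ y e => al_cj.2 (show Cj φ k x y from al_cj.1 e)⟩) fun x hx => (hX x hx).imp fun y e => al_cj.2 e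
  exact ⟨k, k.2, fun x hx y e => al_cj.1 (hk x hx y (al_cj.2 e))⟩

end H78.Sy
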