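import Mathlib
import Cfsg.Agent.Lib.Sy.Defs
import Cfsg.Agent.Lib.LocStruct.SylowIn

/-!
# Invariance of `Y` (SY6H AY)
-/

set_option autoImplicit false
set_option linter.unusedSectionVars false
set_option linter.unusedSimpArgs false
set_option linter.unnecessarySeqFocus false

namespace H78.Sy

open H89.D4S H89.D4S.U12 H78.Ofs Subgroup
open H93.SX (Cj nr)
open H69 (IsSylowIn)
open scoped commutatorElement

variable {F E G : Type*} [Field F] [Field E] [Cub F E] [CharP F 2] [CharP E 2] [Finite F] [Finite E]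
  [Group G] [Finite G] {φ : U12 E →* G}

theorem au_Y (hc : CG E ∨ CD (F := F) E) {f : U12 E → U12 E} (a : Au (R5 E) f) (hZ : ∀ x ∈ Z E, f x ∈ Z E) :
    ∀ x ∈ UA.N1 E, f x ∈ UA.N1 E := by
  have k : ∀ x ∈ R5 E, ∀ y ∈ R5 E, ⁅x, y⁆ ∈ Z E → ⁅f x, f y⁆.p1 = 0 := fun x hx y hy h =>
    (a.comm hx hy ▸ hZ _ h :).2.2.2.2
  intro x hx
  refine ⟨?_, a.mem x hx.2⟩
  rcases hc with hc | hc
  · by_contra h0
    have kY : ∀ x ∈ UA.N1 E, ∀ y ∈ UA.N1 E, T ((f x).p0 * (f y).p2) + T ((f y).p0 * (f x).p2) +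
        T (sh (f x).p0 * (f y).p4) + T (sh (f y).p0 * (f x).p4) = 0 := fun x hx y hy =>
      (cR (a.mem x hx.2) (a.mem y hy.2)).2.2.2.2.1.symm.trans
        (k x hx.2 y hy.2 (by rw [cQ hx.1 hy.1]; exact mem_Z'.2 ⟨_, rfl⟩))
    obtain ⟨a0, e0⟩ := hc.1 (f x).p0
    have n0 : a0 ≠ 0 := fun e => h0 (by rw [← e0, e, map_zero])
    have hi : Function.Injective fun y : UA.N1 E => (((f y).p0, (f y).p4), (f y).p1, (f y).p3) := fun y y' e => by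
      simp only [Prod.mk.injEq] at e
      obtain ⟨⟨e1, e2⟩, e3, e4⟩ := e
      refine Subtype.ext (a.eq y.2.2 y'.2.2 (U12.ext e1 ((a.mem _ y.2.2).trans (a.mem _ y'.2.2).symm) e2 ?_ e3 e4))
      have h1 := kY x hx y y.2
      have h2 := kY x hx y' y'.2
      obtain ⟨b, hb⟩ := hc.1 (f y).p2
      obtain ⟨b', hb'⟩ := hc.1 (f y').p2
      rw [e1, e2, ← h2, ← e0, ← hb, ← hb', T_ι_mul, T_ι_mul, T_ι, T_ι, add_left_inj, add_left_inj, add_left_inj] at h1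
      rw [← hb, ← hb', mul_left_cancel₀ n0 h1]
    have hs := ((Nat.bijective_iff_injective_and_card _).2 ⟨hi, by
      rw [card_N1, Nat.card_prod, Nat.card_prod, Nat.card_prod, sq, sq]⟩).2
    obtain ⟨c, c0, c1, -⟩ := exists_ne hc.2 0 a0 0
    obtain ⟨y, hy⟩ := hs ((0, 1), 0, 0)
    obtain ⟨y', hy'⟩ := hs ((ι c, 0), 0, 0)
    simp only [Prod.mk.injEq] at hy hy'
    obtain ⟨b, hb⟩ := hc.1 (f y).p2
    have h1 := kY x hx y y.2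
    have h2 := kY y y.2 y' y'.2
    simp only [hy.1.1, hy.1.2, hy'.1.1, hy'.1.2, ← e0, ← hb, sh_ι, sh_zero, zero_mul, mul_zero, mul_one, map_zero,
      T_ι_mul, T_ι, add_zero, zero_add, CharTwo.add_eq_zero, sq] at h1 h2
    exact c1 ((mul_left_cancel₀ c0 h2).symm.trans (mul_left_cancel₀ n0 h1))
  · have pl := Ph_le (R5 E)
    have pE : Ph (R5 E) ≤ E2 E := Ph_le_of fun y hy =>
      ⟨(sq4 y).1, (sq4 y).2.1, by rw [(sq4 y).2.2.1, mem_R5.1 hy, map_zero, zero_mul]⟩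
    have b : Au (Ph (R5 E)) f := ⟨fun y hy => (Ph_le_of (A := a.pre (Ph (R5 E))) (fun z hz =>
      ⟨mul_mem hz hz, a.mul z hz z hz ▸ sq_mem_Ph (a.mem z hz)⟩) hy).2,
      fun y hy z hz => a.mul y (pl hy) z (pl hz), fun y hy => a.inj y (pl hy)⟩
    refine nd _ fun w => ?_
    obtain ⟨u, v, u', v', rfl⟩ := cr_span hc w
    have m : ∀ u v : E, ⁅g0 u, g4 v⁆ ∈ Ph (R5 E) := fun u v => comm_mem_Ph rfl rfl
    have m2 : ∀ u v : E, ⁅g0 u, g4 v⁆.p2 = cr u v := fun u v => by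
      rw [(cR (x := g0 u) (y := g4 v) rfl rfl).2.2.2.1]; simp [g0, g4]
    obtain ⟨z, hz, e⟩ := b.surj (mul_mem (m u v) (m u' v'))
    have := k z (pl hz) x hx.2 (by rw [cB (pE hz) hx.2, hx.1]; simp [mem_Z, g1, g3])
    rw [cB (pE (b.mem z hz)) (a.mem x hx.2), e, mul_p2, m2, m2, (pE (m u v)).1] at this
    simpa [g1, g3] using this

theorem normal_EA' (hc : CG E ∨ CD (F := F) E) (A : Subgroup (U12 E)) [A.Normal] (h : ¬ A ≤ Z E) :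
    ∃ x ∈ A, x ∈ EA E ∧ x ∉ Z E := by
  rcases hc with hc | hc
  swap
  · obtain ⟨a, e, h0, h1⟩ := U12.normal_EA hc A h
    exact ⟨_, h1, mem_EA'.2 ⟨a, e, rfl⟩, fun k => h0 (by simpa [g1, g3] using k.2.2.2.2)⟩
  have cm : ∀ d ∈ A, ∀ v, ⁅d, v⁆ ∈ A := fun d hd v => by
    have := mul_mem hd (‹A.Normal›.conj_mem _ (inv_mem hd) v)
    rwa [← mul_assoc, ← mul_assoc] at this
  have s1 : ∀ d ∈ A, d ∈ EA E → d.p1 ≠ 0 → ∃ x ∈ A, x ∈ EA E ∧ x ∉ Z E := fun d hd e e1 =>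
    ⟨d, hd, e, fun k => e1 k.2.2.2.2⟩
  have s2 : ∀ d ∈ A, d.p0 = 0 → d.p5 = 0 → d.p4 = 0 → d.p2 ≠ 0 → ∃ x ∈ A, x ∈ EA E ∧ x ∉ Z E :=
    fun d hd e0 e5 e4 e2 => by
      obtain ⟨k, hk⟩ := exists_T e2 1
      obtain ⟨c0, c5, c4, c2, c1⟩ := UA.c3 e0 e5 e4 (g0 k)
      exact s1 _ (cm d hd _) ⟨c0, c5, c4, c2⟩ (by rw [c1, mul_comm]; exact hk ▸ one_ne_zero)
  have s4 : ∀ d ∈ A, d.p0 = 0 → d.p5 = 0 → d.p4 ≠ 0 → ∃ x ∈ A, x ∈ EA E ∧ x ∉ Z E :=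
    fun d hd e0 e5 e4 => by
      obtain ⟨a, ha⟩ := hc.1 d.p4
      obtain ⟨b, hb⟩ := hc.1 d.p2
      have a0 : a ≠ 0 := fun e => e4 (by rw [← ha, e, map_zero])
      obtain ⟨k, k0, k1, -⟩ := exists_ne hc.2 0 (b / a) 0
      obtain ⟨c0, c5, c4, c2, c1, -⟩ := cR (y := g0 (ι k)) e5 rfl
      refine s1 _ (cm d hd _) ⟨c0, c5, c4, by rw [c2, hc.cr, hc.cr, add_zero]⟩ fun e => k1 ?_
      rw [c1] at e
      simp only [g0, e0, ← ha, ← hb, sh_ι, mul_zero, map_zero, T_ι_mul, T_ι, add_zero, zero_add,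
        CharTwo.add_eq_zero, sq, mul_assoc] at e
      rw [mul_left_cancel₀ k0 e, mul_div_cancel_right₀ _ a0]
  obtain ⟨d, hd, n⟩ := SetLike.not_le_iff_exists.1 h
  by_cases e0 : d.p0 = 0
  · by_cases e5 : d.p5 = 0
    · by_cases e4 : d.p4 = 0
      · by_cases e2 : d.p2 = 0
        exacts [⟨d, hd, ⟨e0, e5, e4, e2⟩, n⟩, s2 d hd e0 e5 e4 e2]
      · exact s4 d hd e0 e5 e4
    · obtain ⟨c0, c5, c4⟩ := UA.c1 d (g0 1)
      exact s4 _ (cm d hd _) c0 c5 (by rw [c4]; simp [g0, e5])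
  · obtain ⟨k, hk⟩ := exists_T e0 1
    obtain ⟨c0, c5, c4, c2, c1⟩ := UA.c3 (y := g2 k) rfl rfl rfl d
    refine s1 ⁅g2 k, d⁆ ?_ ⟨c0, c5, c4, c2⟩ (c1 ▸ hk ▸ one_ne_zero)
    rw [← commutatorElement_inv]
    exact inv_mem (cm d hd _)

theorem sq_comm {v : U12 E} (hv : v.p0 = 0) (t : U12 E) : ⁅v, t⁆ * ⁅v, t⁆ = g3 (v.p5 ^ 2 * N t.p0) := by
  have e : ⁅v, t⁆.p2 = cr t.p0 v.p4 + ι v.p5 * sh t.p0 := by
    rw [commutatorElement_def]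
    u12s; simp only [hv]; cub
  obtain ⟨c0, c5, c4⟩ := UA.c1 v t
  rw [sq_Q c0, c5, c4, e, hv]
  congr 1
  cubK E

theorem ct (inj : Function.Injective φ) {n : G} (hn : n ∈ nr φ (Q E)) {t s : U12 E} (ht : t.p0 ≠ 0)
    (hs : ∀ x ∈ Q E, Cj φ (n * φ t * n⁻¹) x (s * x * s⁻¹)) : n ∈ nr φ (UA.N1 E) ∧ n ∈ nr φ (EA E) := by
  have k : ∀ x y, y ∈ Q E → Cj φ n x y → Cj φ n (t * x * t⁻¹) (s * y * s⁻¹) := fun x y hy e => by
    have := ((hs y hy).trans e).trans (Cj.self t x).symm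
    rwa [show n * φ t * n⁻¹ * n * (φ t)⁻¹ = n by group] at this
  have s0 : s.p0 ≠ 0 := fun e => by
    obtain ⟨q, hq, e1⟩ := H93.SX.nr_cj' hn (show s ∈ Q E from e)
    obtain ⟨y, hy, e2⟩ := H93.SX.nr_cj hn (show (g5 1 : U12 E) ∈ Q E from rfl)
    have := congrArg U12.p4 ((k _ y hy e2).symm.uniq inj ((e1.mul e2).mul e1.inv).symm)
    rw [(UA.cj rfl t).2.2.1, (UA.cj rfl q).2.2.1, mem_Q.1 hq] at this
    exact ht (by simpa [g5] using this)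
  have hY : n ∈ nr φ (UA.N1 E) := H93.SX.mem_nr_of hn (fun x hx => hx.1) fun x hx y hy e => ⟨hy, by
    have e1 : Cj φ n ⁅x, t⁆ ⁅y, s⁆ := by
      simpa only [commutatorElement_def, mul_assoc] using e.mul (k _ _ (inv_mem hy) e.inv)
    have e2 := e1.mul e1
    rw [sq_comm hx.1, sq_comm hy, hx.2, show (g3 ((0 : F) ^ 2 * N t.p0) : U12 E) = 1 by simp [g3]; rfl] at e2
    have := congrArg U12.p3 (e2.uniq inj (show Cj φ n 1 1 by simp [Cj]))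
    simpa [g3, N_eq_zero, s0] using this⟩
  refine ⟨hY, H93.SX.mem_nr_of hY (fun x hx => ⟨hx.1, hx.2.1⟩) fun x hx y hy e => ?_⟩
  have b : ∀ v ∈ UA.N1 E, Bf y v = 0 := fun v hv => by
    obtain ⟨u, hu, e1⟩ := H93.SX.nr_cj' hY hv
    have e2 := e.comm e1
    rw [UA.c4 hx, hu.2, mul_zero, cQ hy.1 hv.1] at e2
    exact congrArg U12.p3 (e2.uniq inj (show Cj φ n 1 1 by simp [Cj]))
  exact ⟨hy.1, hy.2, nd _ fun a => by simpa [Bf, g2] using b (g2 a) ⟨rfl, rfl⟩,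
    nd _ fun a => by simpa [Bf, g4] using b (g4 a) ⟨rfl, rfl⟩⟩

end H78.Sy
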