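import Cfsg.Agent.Lib.G2S.GB

/-! # Goldschmidt's theorem modulo a central subgroup and the core (SY6H GR) -/

set_option autoImplicit false
set_option linter.unusedSectionVars false

namespace H78.Sy
open Subgroup H69 H89.G2S H89.G2S.GB
open scoped commutatorElement

variable {G : Type*} [Group G] [Finite G]

open Cfsg H45 Gold H78.Ru

theorem gb_rel {H S A Z : Subgroup G} (hS : IsSylowIn 2 S H) (hZ : Z ≤ A) (hA : A ≤ S) (hc : H ≤ 𝐂(Z))
    (hsq : ∀ a ∈ A, a * a ∈ Z) (sc : ∀ g ∈ H, ∀ a ∈ A, g * a * g⁻¹ ∈ S → g * a * g⁻¹ ∈ A)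
    (h1 : ∀ T : Subgroup G, A ≤ T → T ≤ S → S ≤ 𝐍(T) → (∀ d ∈ T, d * d ∈ Z → d ∈ A) → T ≤ A)
    (h2 : ∀ K : Subgroup G, A ≤ K → K ≤ H ⊓ 𝐍(A) → H ⊓ 𝐍(A) ≤ 𝐍(K) → S ⊓ K ≤ A → ⁅A, K⁆ ≤ Z) :
    H ≤ 𝐍(A ⊔ Od H) := by
  have SH := hS.le
  have AH := hA.trans SH
  obtain ⟨X, _, _, f, hf, rfl⟩ := gk_exists_quo (hZ.trans AH) hc
  have imH : im f H = ⊤ := by rw [im_dom, MonoidHom.range_eq_top.2 hf]
  have hS' : IsSylowIn 2 (im f S) ⊤ := imH ▸ morphim_pSylow f le_rfl hS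
  have pN : pre f 𝐍(im f A) = H ⊓ 𝐍(A) := pre_normalizer_im f hZ AH
  have tp : ∀ L, L ≤ im f H := fun L => le_top.trans imH.ge
  have key : (im f A ⊔ Od ⊤).Normal := by
    refine gb_abs hS' (morphimS f hA) (fun a ha' => ?_) (fun q a ha' hq => ?_)
      (fun T k1 k2 k3 k4 => ?_) (fun K k0 hK hn hb => ?_)
    · obtain ⟨a, ha, rfl⟩ := (mem_im_of_le f AH).1 ha'
      rw [← ap_mul f (AH ha) (AH ha)]
      exact (ap_eq_one_iff f (mul_mem (AH ha) (AH ha))).2 (hsq a ha)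
    · obtain ⟨a, ha, rfl⟩ := (mem_im_of_le f AH).1 ha'
      obtain ⟨k, rfl⟩ := hf q
      rw [← ap_coe, ← ap_conj f (AH ha) k.2] at hq ⊢
      exact ap_mem_im f (sc k k.2 a ha ((ap_mem_im_iff f (hZ.trans hA)
        (mul_mem (mul_mem k.2 (AH ha)) (inv_mem k.2))).1 hq))
    · rw [← morphpreK f (tp T)]
      refine morphimS f (h1 _ ((sub_morphim_pre f AH).1 k1) (pre_le_of_le_im f (hZ.trans hA) k2)
        (le_normalizer_pre f SH k3) fun d hd e => ?_)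
      obtain ⟨d1, d2⟩ := (mem_pre f).1 hd
      exact (ap_mem_im_iff f hZ d1).1 (k4 _ d2 (by
        rw [← ap_mul f d1 d1]; exact (ap_eq_one_iff f (mul_mem d1 d1)).2 e))
    · have k := h2 (pre f K) ((sub_morphim_pre f AH).1 k0) (pN ▸ pre_mono f hK)
        (pN ▸ morphpre_norms f hn) fun d hd => (ap_mem_im_iff f hZ (SH hd.1)).1
          (hb ⟨ap_mem_im f hd.1, ((mem_pre f).1 hd.2).2⟩)
      rw [← morphim_cents_iff f AH (pre_le_dom f K), morphpreK f (tp K)] at k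
      exact commutator_eq_bot_of_le_centralizer k
  have e : pre f (im f A ⊔ Od ⊤) = A ⊔ Od H := by
    rw [morphpreY f (tp _) (tp _), morphimGK f hZ AH, gk_pre_Od f hf (hS.isP.to_le (hZ.trans hA)) hc,
      ← sup_assoc, sup_eq_left.2 hZ]
  rw [← e]
  exact le_normalizer_pre f le_rfl (le_top.trans (normal_iff_top_le_normalizer.1 key))

end H78.Sy
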