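import Mathlib
import Cfsg.Agent.Lib.Sy.AY
import Cfsg.Agent.Lib.G2S.Gen

/-!
# Odd normal subgroups act trivially on `Q/Y` (SY6H K5)
-/

set_option autoImplicit false
set_option linter.unusedSectionVars false
set_option linter.unusedSimpArgs false
set_option linter.unnecessarySeqFocus false

namespace H78.Sy

open H89.D4S H89.D4S.U12 H78.Ofs Subgroup
open H93.SX (Cj nr)
open H69 (IsSylowIn)
open scoped commutatorElement

variable {F E G : Type*} [Field F] [Field E] [Cub F E] [CharP F 2] [CharP E 2] [Finite F] [Finite E]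
  [Group G] [Finite G] {φ : U12 E →* G}

theorem k5 (hc : CG E ∨ CD (F := F) E) (inj : Function.Injective φ) {N K : Subgroup G}
    (hS : IsSylowIn 2 φ.range N) (hN : N ≤ nr φ (Q E)) (hZ : N ≤ centralizer ((Z E).map φ : Set G))
    (h0 : (Q E).map φ ≤ K) (h1 : K ≤ N) (h2 : N ≤ normalizer (K : Set G)) (h3 : φ.range ⊓ K ≤ (Q E).map φ) :
    ∀ k ∈ K, ∀ x ∈ Q E, ∀ y, Cj φ k x y → y.p5 = x.p5 := by
  have hP : (Q E).map φ ≤ N := h0.trans h1
  have nP : (((Q E).map φ).subgroupOf N).Normal := (normal_subgroupOf_iff_le_normalizer hP).2 hN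
  have nK : (K.subgroupOf N).Normal := (normal_subgroupOf_iff_le_normalizer h1).2 h2
  let π := QuotientGroup.mk' (((Q E).map φ).subgroupOf N)
  have nY : ((K.subgroupOf N).map π).Normal := nK.map π (QuotientGroup.mk'_surjective _)
  have oY : Odd (Nat.card ((K.subgroupOf N).map π)) := by
    have := (hS.inf_normal h1 h2).not_dvd_relIndex
    rw [le_antisymm h3 (le_inf (map_le_range _ _) h0)] at this
    rw [← relIndex_ker, QuotientGroup.ker_mk', relIndex_subgroupOf h1]
    exact Nat.odd_iff.2 (by omega)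
  let L : Subgroup N :=
    { carrier := {k | ∀ x ∈ Q E, ∀ y, Cj φ k x y → y.p5 = x.p5}
      one_mem' := fun x _ y h => by rw [h.uniq inj H93.SX.Cj.one]
      mul_mem' := fun {a b} ha hb x hx y h => by
        obtain ⟨x', hx', e⟩ := H93.SX.nr_cj (hN b.2) hx
        obtain ⟨y', -, e'⟩ := H93.SX.nr_cj (hN a.2) hx'
        rw [h.uniq inj (e'.trans e), ha _ hx' _ e', hb _ hx _ e]
      inv_mem' := fun {a} ha x hx y h => by
        have e := h.symm
        rw [Subgroup.coe_inv, inv_inv] at e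
        exact (ha y (h.mem inj (hN a⁻¹.2) hx) x e).symm }
  have PL : ((Q E).map φ).subgroupOf N ≤ L := by
    rintro k ⟨q, -, e⟩ x _ y h
    have e' : φ q = (k : G) := e
    rw [← e'] at h
    rw [h.uniq inj (H93.SX.Cj.self q x)]
    simp [add_right_comm, CharTwo.add_self_eq_zero]
  let r : E → N := fun a => ⟨φ (g0 a), hS.le ⟨_, rfl⟩⟩
  have rm : ∀ a b, π (r a) * π (r b) = π (r (a + b)) := fun a b => by
    rw [← map_mul]
    congr 1
    exact Subtype.ext (show φ (g0 a) * φ (g0 b) = φ (g0 (a + b)) by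
      rw [← map_mul, show (g0 a * g0 b : U12 E) = g0 (a + b) by u12])
  have r1 : ∀ a, π (r a) = 1 ↔ a = 0 := fun a => by
    rw [QuotientGroup.mk'_apply, QuotientGroup.eq_one_iff]
    constructor
    · rintro ⟨q, hq, e⟩
      have : q = g0 a := inj e
      rw [this] at hq
      exact hq
    · rintro rfl
      exact ⟨g0 0, rfl, rfl⟩
  have key : ∀ a, a ≠ 0 → ∀ y ∈ (K.subgroupOf N).map π, y * π (r a) = π (r a) * y → y ∈ L.map π := by
    rintro a ha _ ⟨k, -, rfl⟩ e
    refine ⟨k, fun x hx y h => ?_, rfl⟩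
    have e1 : π (r a) = π (k * r a * k⁻¹) := by
      rw [map_mul, map_mul, e, map_inv, mul_inv_cancel_right]
    obtain ⟨q, hq, e2⟩ := QuotientGroup.eq.1 e1
    have e3 : Cj φ k (g0 a) (g0 a * q) := by
      have e2' : φ q = (φ (g0 a))⁻¹ * (k * φ (g0 a) * (k : G)⁻¹) := e2
      rw [Cj, map_mul, e2', mul_inv_cancel_left]
    have c := (h.comm e3).mul (h.comm e3)
    rw [sq_comm hx, sq_comm (h.mem inj (hN k.2) hx)] at c
    have c' : y.p5 ^ 2 * Cub.N (a + q.p0) = x.p5 ^ 2 * Cub.N a :=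
      congrArg U12.p3 (c.uniq inj (H93.SX.Cj.of_cent (hZ k.2) (mem_Z'.2 ⟨_, rfl⟩)))
    rw [show q.p0 = 0 from hq, add_zero] at c'
    rcases sq_eq_sq_iff_eq_or_eq_neg.1 (mul_right_cancel₀ (mt N_eq_zero.1 ha) c') with e | e
    · exact e
    · rw [e, CharTwo.neg_eq]
  have c4 : 4 ≤ Nat.card E := by
    rcases hc with h | h
    · rw [h.card]; exact h.2
    · have := Nat.pow_le_pow_left (two_le_card F) 3
      rw [CD] at h
      omega
  obtain ⟨w, w0, w1, -⟩ := exists_ne c4 0 1 1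
  have sq : ∀ a, π (r a) * π (r a) = 1 := fun a => by rw [rm, r1, CharTwo.add_self_eq_zero]
  have w2 : 1 + w ≠ 0 := fun e => w1 (CharTwo.add_eq_zero.1 e).symm
  have nn := fun g => (normalizer_eq_top ((K.subgroupOf N).map π)).ge (mem_top g)
  have le := H89.G2S.gen4 (sq 1) (sq w) (mt (r1 1).1 one_ne_zero) (mt (r1 w).1 w0)
    (fun e => w2 ((r1 _).1 (by rw [← rm, e, sq]))) (by rw [rm, rm, add_comm]) oY (nn _) (nn _)
    (key 1 one_ne_zero) (key w w0) (by rw [rm]; exact key _ w2)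
  intro k hk
  obtain ⟨l, hl, e⟩ := le ⟨⟨k, h1 hk⟩, hk, rfl⟩
  exact (mul_mem_cancel_left (inv_mem hl)).1 (PL (QuotientGroup.eq.1 e))

end H78.Sy
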