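import Mathlib
import Cfsg.Agent.Lib.Sy.AY
import Cfsg.Agent.Lib.Core.HallSZ

/-!
# Odd normal subgroups act trivially on `Q/Z` (SY6H KV)
-/

set_option autoImplicit false
set_option linter.unusedSectionVars false
set_option linter.unusedSimpArgs false
set_option linter.unnecessarySeqFocus false

namespace H78.Sy

open H89.D4S H89.D4S.U12 H78.Ofs Subgroup
open H93.SX (Cj nr)
open H69 (IsSylowIn)
open scoped commutatorElement

variable {F E G : Type*} [Field F] [Field E] [Cub F E] [CharP F 2] [CharP E 2] [Finite F] [Finite E]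
  [Group G] [Finite G] {φ : U12 E →* G}

/-- the abstract part: `⁅Q, K⁆` meets the centraliser of `K` on `Q / Z` in the centre of `Q` -/
theorem kv_abs {Q Z K : Subgroup G} (hQ : IsSylowIn 2 Q K) (n : K ≤ normalizer (Q : Set G))
    (hZ : K ≤ centralizer (Z : Set G)) (c : ⁅Q, Q⁆ ≤ Z) {a : G} (h1 : a ∈ ⁅Q, K⁆) (h2 : ∀ k ∈ K, ⁅a, k⁆ ∈ Z) :
    a ∈ centralizer (Q : Set G) := by
  have nZ := H69.le_normalizer_of_le_centralizer hZ
  have DQ : ⁅Q, K⁆ ≤ Q := H69.commutator_le_left_of_le_normalizer n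
  obtain ⟨C, hC⟩ : ∃ C, C = Q ⊓ H2.relCentralizer K Z := ⟨_, rfl⟩
  have CQ : C ≤ Q := hC ▸ inf_le_left
  have b1 : ⁅⁅Q, C⁆, K⁆ = ⊥ := commutator_eq_bot_iff_le_centralizer.2
    (((commutator_mono le_rfl CQ).trans c).trans (le_centralizer_iff.1 hZ))
  have b2 : ⁅⁅C, K⁆, Q⁆ = ⊥ := commutator_eq_bot_iff_le_centralizer.2
    ((H2.le_relCentralizer_iff.1 (hC ▸ inf_le_right)).2.trans (le_centralizer_iff.1 (hQ.le.trans hZ)))
  have b3 := commutator_eq_bot_iff_le_centralizer.1 (commutator_commutator_eq_bot_of_rotate b1 b2)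
  rw [commutator_comm] at b3
  have aC : a ∈ C := hC ▸ ⟨DQ h1, nZ (hQ.le (DQ h1)), h2⟩
  obtain ⟨e, he⟩ := IsPGroup.iff_card.1 hQ.isP
  have co : (Nat.card Q).Coprime (Q.relIndex K) :=
    he ▸ ((Nat.prime_two.coprime_iff_not_dvd.2 hQ.not_dvd_relIndex).pow_left e)
  obtain ⟨H, k1, k2, -, k3⟩ := H3.exists_complement_in hQ.le n co
  intro x hx
  obtain ⟨u, hu, d, hd, rfl⟩ := H2.exists_centralizer_mul_commutator (A := H) (K := Q) (k1.trans n)
    (k3 ▸ co.symm) (Or.inr (by haveI := hQ.isP.isNilpotent; infer_instance)) hx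
  have uC : u ∈ C := hC ▸ ⟨hu.1, nZ (hQ.le hu.1), fun k hk => by
    have := H2.commutator_sup_le (H := zpowers u) (hQ.le.trans nZ) (k1.trans nZ)
      ((commutator_mono le_rfl (zpowers_le.2 hu.1)).trans c)
      ((commutator_eq_bot_iff_le_centralizer.2 (le_centralizer_iff.1 (zpowers_le.2 hu.2))).le.trans bot_le)
    rw [← commutatorElement_inv]
    exact inv_mem (this (commutator_mem_commutator (k2 ▸ hk) (mem_zpowers u)))⟩
  rw [mul_assoc, ← b3 (commutator_mono le_rfl k1 hd) a aC, ← mul_assoc, b3 h1 u uC, mul_assoc]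

theorem kv (hc : CG E ∨ CD (F := F) E) (inj : Function.Injective φ) {N K : Subgroup G}
    (hS : IsSylowIn 2 φ.range N) (hN : N ≤ nr φ (Q E)) (hZ : N ≤ centralizer ((Z E).map φ : Set G))
    (h0 : (Q E).map φ ≤ K) (h1 : K ≤ N) (h2 : N ≤ normalizer (K : Set G)) (h3 : φ.range ⊓ K ≤ (Q E).map φ)
    (h5 : ∀ k ∈ K, ∀ x ∈ Q E, ∀ y, Cj φ k x y → y.p5 = x.p5) : ⁅(Q E).map φ, K⁆ ≤ (Z E).map φ := by
  have QS : (Q E).map φ ≤ φ.range := map_le_range _ _
  have hQ : IsSylowIn 2 ((Q E).map φ) K := le_antisymm h3 (le_inf QS h0) ▸ hS.inf_normal h1 h2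
  have DQ : ⁅(Q E).map φ, K⁆ ≤ (Q E).map φ := H69.commutator_le_left_of_le_normalizer (h1.trans hN)
  have nD := H69.le_normalizer_commutator hN h2
  haveI : (⁅(Q E).map φ, K⁆.comap φ).Normal := ⟨fun x hx g => by
    rw [mem_comap, map_mul, map_mul, map_inv]
    exact H69.conj_mem_of_mem_normalizer (nD (hS.le ⟨g, rfl⟩)) hx⟩
  by_contra k
  obtain ⟨a, a1, a2, a3⟩ := normal_EA' hc (⁅(Q E).map φ, K⁆.comap φ) fun h => k fun x hx => by
    obtain ⟨y, -, rfl⟩ := DQ hx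
    exact mem_map_of_mem _ (h hx)
  have := kv_abs hQ (h1.trans hN) (h1.trans hZ) (by
    rw [← map_commutator]
    exact map_mono (commutator_le.2 fun x hx y hy => mem_Z'.2 ⟨_, cQ hx hy⟩)) a1 fun g hg => by
      obtain ⟨b, hb, e⟩ := H93.SX.nr_cj (hN (h1 hg)) (show a ∈ Q E from a2.1)
      have z : a⁻¹ * b ∈ Z E := UA.zQ fun y hy => by
        obtain ⟨x, hx, f⟩ := H93.SX.nr_cj' (hN (h1 hg)) (show y ∈ Q E from hy)
        have m := (e.comm f).uniq inj (Cj.of_cent (hZ (h1 hg)) (mem_Z'.2 ⟨_, UA.c4 a2 x⟩))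
        rw [UA.c4 a2, ← h5 g hg x hx y f, ← UA.c4 a2, commutatorElement_def, commutatorElement_def,
          mul_left_inj] at m
        calc _ = a⁻¹ * (b * y * b⁻¹) * b := by group
          _ = _ := by rw [m]; group
      refine ⟨a * (a⁻¹ * b)⁻¹ * a⁻¹, (normal_Z (E := E)).conj_mem _ (inv_mem z) a, ?_⟩
      calc _ = φ a * (φ b)⁻¹ := by simp only [map_mul, map_inv]; group
        _ = _ := by rw [← show _ = φ b from e, commutatorElement_def]; group
  exact a3 (UA.zQ fun y hy => inj (by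
    rw [map_mul, map_mul]; exact (this _ (mem_map_of_mem _ (show y ∈ Q E from hy))).symm))

end H78.Sy
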