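import Mathlib
import Cfsg.Agent.Lib.Sy.T3
import Cfsg.Agent.Lib.LocStruct.SylowIn
import Cfsg.Agent.Lib.SY6.SE

/-!
# The conjugates of `Z` in `A` (SY6H ZT)
-/

set_option autoImplicit false
set_option linter.unusedSectionVars false
set_option linter.unusedSimpArgs false
set_option linter.unnecessarySeqFocus false

namespace H78.Sy

open H89.D4S H89.D4S.U12 H78.Ofs Subgroup H75.SY
open H93.SX (Cj nr mem_nr nr_cj nr_cj')
open H69
open scoped commutatorElement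

variable {F E G : Type*} [Field F] [Field E] [Cub F E] [CharP F 2] [CharP E 2] [Finite F] [Finite E]
  [Group G] [Finite G] {φ : U12 E →* G}

theorem zt_RA (inj : Function.Injective φ) {n : G} (hn : n ∈ nr φ (R5 E)) : n ∈ nr φ (EA E) :=
  mem_nr fun x hx => by
    obtain ⟨y, -, e⟩ := nr_cj hn (show x ∈ R5 E from hx.2.1)
    refine ⟨y, mem_EA_of_comm fun v hv => ?_, e⟩
    obtain ⟨w, hw, e'⟩ := nr_cj' hn (show v ∈ R5 E from hv)
    exact cj_comm inj e e' ((comm_A hx).2 (.inr hw))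

theorem zt_se (inj : Function.Injective φ) (hS : IsSylowIn 2 φ.range ⊤) {n : G} (hn : n ∈ nr φ (R5 E))
    {t : U12 E} (ht : t.p5 ≠ 0) (h : n * φ t * n⁻¹ ∈ nr φ (Z E)) : n ∈ nr φ (Z E) := by
  obtain ⟨l, hl, s, e⟩ := into_S (hS.mono (le_inf (S_le (R5 E)) (S_le (Z E))) le_top) (x := n * φ t * n⁻¹)
    (mem_inf.2 ⟨mul_mem (mul_mem hn (S_nr _ t)) (inv_mem hn), h⟩) (k := 3)
    (by rw [conj_pow, ← map_pow, pow8, map_one, mul_one, mul_inv_cancel])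
  rw [mem_inf] at hl
  refine (mul_mem_cancel_left hl.2).1 (inv_mem_iff.1 (mem_nr fun x hx => ?_))
  obtain ⟨y, hy, e'⟩ := nr_cj (inv_mem (zt_RA inj (mul_mem hl.1 hn))) (Z_le_A hx)
  exact ⟨y, ⟨hy.1, hy.2.1, hy.2.2.1, hy.2.2.2, ((comm_A hy).1 (cj_comm inj e' (x' := s)
    (by rw [Cj, ← e]; group) (Z_cent hx s))).resolve_right ht⟩, e'⟩

theorem zt_od (inj : Function.Injective φ) (hS : IsSylowIn 2 φ.range ⊤) {g : G} (hg : g ∈ nr φ (R5 E))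
    (hA : g ∉ nr φ (Z E)) {t s : U12 E} (ht : t.p5 ≠ 0) (hs : s.p5 ≠ 0) :
    ∃ m, Odd m ∧ (φ t * (g * φ s * g⁻¹)) ^ m ∈ (R5 E).map φ := by
  have cq : ∀ n ∈ nr φ (R5 E), ∀ x ∈ (R5 E).map φ, n * x * n⁻¹ ∈ (R5 E).map φ := fun n hn x hx =>
    (mem_normalizer_iff.1 hn x).1 hx
  have n1 : g * φ s * g⁻¹ ∈ nr φ (R5 E) := mul_mem (mul_mem hg (S_nr _ s)) (inv_mem hg)
  have q1 : φ t * φ t ∈ (R5 E).map φ := ⟨t * t, (sq4 t).2.1, map_mul φ t t⟩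
  have q2 : g * φ s * g⁻¹ * (g * φ s * g⁻¹) ∈ (R5 E).map φ := by
    rw [conj_mul]; exact cq g hg _ ⟨s * s, (sq4 s).2.1, map_mul φ s s⟩
  generalize e1 : g * φ s * g⁻¹ = t1 at n1 q2
  have nw : φ t * t1 ∈ nr φ (R5 E) := mul_mem (S_nr _ t) n1
  obtain ⟨k, m, hm, e⟩ := Nat.exists_eq_two_pow_mul_odd (orderOf_pos (φ t * t1)).ne'
  refine ⟨m, hm, by_contra fun hy => hA ?_⟩
  obtain ⟨l, hl, r, er⟩ := into_S (hS.mono (S_le (R5 E)) le_top) (pow_mem nw m) (k := k)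
    (by rw [← pow_mul, mul_comm, ← e, pow_orderOf_eq_one])
  have r0 : r.p5 ≠ 0 := fun r0 => hy (by
    have := cq _ (inv_mem hl) _ ⟨r, r0, rfl⟩
    rwa [← er, show l⁻¹ * (l * (φ t * t1) ^ m * l⁻¹) * l⁻¹⁻¹ = (φ t * t1) ^ m by group] at this)
  have key : ∀ c ∈ nr φ (R5 E), c * (φ t * t1) * c⁻¹ * (φ t * t1) ∈ (R5 E).map φ →
      l * c * l⁻¹ ∈ nr φ (Z E) := fun c hc h => by
    have := cq l hl _ (pw_mem (mul_mem (mul_mem hc nw) (inv_mem hc)) h m)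
    refine zt_se inj hS (mul_mem (mul_mem hl hc) (inv_mem hl)) r0 (S_le _ ?_)
    rw [show l * c * l⁻¹ * φ r * (l * c * l⁻¹)⁻¹ =
      l * ((c * (φ t * t1) * c⁻¹) ^ m * (φ t * t1) ^ m) * l⁻¹ * (φ r)⁻¹ by rw [← er, conj_pow]; group]
    exact mul_mem (map_le_range _ _ this) (inv_mem ⟨r, rfl⟩)
  have k1 := zt_se inj hS hl ht (key _ (S_nr _ t) (by
    rw [show φ t * (φ t * t1) * (φ t)⁻¹ * (φ t * t1) = φ t * φ t * (t1 * t1) by group]
    exact mul_mem q1 q2))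
  have k2 := key _ (inv_mem n1) (by
    rw [show t1⁻¹ * (φ t * t1) * t1⁻¹⁻¹ * (φ t * t1) =
      t1⁻¹ * (φ t * (t1 * t1) * (φ t)⁻¹ * (φ t * φ t)) * t1⁻¹⁻¹ by group]
    exact cq _ (inv_mem n1) _ (mul_mem (cq _ (S_nr _ t) _ q2) q1))
  refine (mul_mem_cancel_left k1).1 (zt_se inj hS (mul_mem hl hg) hs ?_)
  rw [show l * g * φ s * (l * g)⁻¹ = (l * t1⁻¹ * l⁻¹)⁻¹ by rw [← e1]; group]
  exact inv_mem k2

theorem Z_ti (inj : Function.Injective φ) (hS : IsSylowIn 2 φ.range ⊤) {n : G} (hn : n ∈ nr φ (R5 E))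
    {u v : U12 E} (hu : u ∈ Z E) (hv : v ∈ Z E) (u1 : u ≠ 1) (e : Cj φ n u v) : n ∈ nr φ (Z E) := by
  refine by_contra fun h => h (mem_nr fun x hx => ?_)
  obtain ⟨y, hy, e'⟩ := nr_cj (zt_RA inj hn) (Z_le_A hx)
  refine ⟨y, ⟨hy.1, hy.2.1, hy.2.2.1, hy.2.2.2, by_contra fun y1 => ?_⟩, e'⟩
  obtain ⟨c, rfl⟩ := mem_Z'.1 hv
  have c0 : c ≠ 0 := by
    rintro rfl
    exact u1 (e.symm.uniq inj (cj_one _))
  obtain ⟨_, ⟨m, rfl⟩, r, hr, er⟩ := zt_od inj hS hn h (t := g5 (c / y.p1)) (s := g5 1) (div_ne_zero c0 y1)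
    one_ne_zero
  have fx : ∀ {a b : U12 E}, a ∈ Z E → Cj φ n a b → Cj φ (n * φ (g5 1) * n⁻¹) b b := fun {a b} ha p => by
    have := Cj.self (ι := φ) (g5 1) a
    rw [← Z_cent ha, mul_inv_cancel_right] at this
    exact (p.trans this).trans p.symm
  have s1 : Cj φ (φ (g5 (c / y.p1))) y (g3 c * y) := by
    have := Cj.self (ι := φ) (g5 (c / y.p1)) y
    rwa [comm_c, ← commutatorElement_inv, UA.c4 hy, show (g5 (c / y.p1) : U12 E).p5 = c / y.p1 from rfl,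
      mul_div_cancel₀ _ y1, inv_eq_of_mul_eq_one_right (sq_B ⟨rfl, rfl, rfl⟩)] at this
  have s2 : Cj φ (φ (g5 (c / y.p1))) (g3 c) (g3 c) := by
    have := Cj.self (ι := φ) (g5 (c / y.p1)) (g3 c)
    rwa [← g3_comm, mul_inv_cancel_right] at this
  have a1 := s1.trans (fx hx e')
  have a2 := s2.trans (fx hu e)
  generalize φ (g5 (c / y.p1)) * (n * φ (g5 1) * n⁻¹) = w at er a1 a2
  have a3 : Cj φ (w * w) y y := by
    have := (a2.mul a1).trans a1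
    rwa [← mul_assoc, sq_B (x := g3 c) ⟨rfl, rfl, rfl⟩, one_mul] at this
  have a4 : ∀ k : ℕ, Cj φ (w ^ (2 * k + 1)) y (g3 c * y) := fun k => by
    induction k with
    | zero => simpa using a1
    | succ k ih =>
      rw [show 2 * (k + 1) + 1 = 2 * k + 1 + 2 by ring, pow_add, sq]
      exact ih.trans a3
  have := (er ▸ a4 m).uniq inj (Cj.self r y)
  rw [← (comm_A hy).2 (.inr hr), mul_inv_cancel_right, mul_eq_right] at this
  exact c0 (congrArg U12.p3 this)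

end H78.Sy
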